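import Mathlib

/-!
# Elementary lemmas: eigenvectors of several operators, fixed points of a `p`-group action
-/

set_option autoImplicit false

namespace CfsgLib.CubicThree

/-- Common eigenvectors with separated eigenvalue systems are independent. -/
theorem linearIndependent_of_separated {k M ι κ : Type*} [Field k] [AddCommGroup M] [Module k M]
    (T : κ → M →ₗ[k] M) (χ : ι → κ → k) (x : ι → M) (hx : ∀ i, x i ≠ 0)
    (hT : ∀ g i, T g (x i) = χ i g • x i) (hsep : ∀ i j, i ≠ j → ∃ g, χ i g ≠ χ j g) :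
    LinearIndependent k x := by
  classical
  rw [linearIndependent_iff']
  intro s
  induction s using Finset.induction with
  | empty => intro c _ i hi; simp at hi
  | insert j s hj ih =>
    intro c hc
    have hrest : ∀ i ∈ s, c i = 0 := by
      intro i hi
      obtain ⟨g, hg⟩ := hsep i j (fun h => hj (h ▸ hi))
      have h1 := congrArg (T g) hc
      rw [map_sum, map_zero] at h1
      simp only [map_smul, hT, Finset.sum_insert hj] at h1
      have h2 := congrArg (χ j g • ·) hc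
      simp only [Finset.sum_insert hj, smul_zero, smul_add, Finset.smul_sum] at h2
      have h3 := ih (fun l => c l * (χ l g - χ j g)) (by
        have h4 := congrArg₂ (· - ·) h1 h2
        simp only [sub_self] at h4
        refine Eq.trans ?_ h4
        rw [add_sub_add_comm, smul_smul, smul_smul, mul_comm (χ j g) (c j), sub_self, zero_add,
          ← Finset.sum_sub_distrib]
        refine Finset.sum_congr rfl fun l _ => ?_
        simp only [smul_smul]
        rw [← sub_smul]
        congr 1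
        ring) i hi
      exact (mul_eq_zero.1 h3).resolve_right (sub_ne_zero.2 hg)
    intro i hi
    rcases Finset.mem_insert.1 hi with rfl | hi
    · rw [Finset.sum_insert hj, Finset.sum_eq_zero (fun l hl => by rw [hrest l hl, zero_smul]),
        add_zero] at hc
      exact (smul_eq_zero.1 hc).resolve_right (hx i)
    · exact hrest i hi

/-- A power of an element, all of whose prime order powers act trivially, argument. -/
theorem exists_prime_power_order {G : Type*} [Group G] [Finite G] {g : G} (hg : g ≠ 1) :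
    ∃ (q : ℕ) (k : ℕ), q.Prime ∧ orderOf (g ^ k) = q ∧ q ∣ orderOf g := by
  have h1 : orderOf g ≠ 1 := fun h => hg (orderOf_eq_one_iff.1 h)
  obtain ⟨q, hq, hd⟩ := Nat.exists_prime_and_dvd h1
  refine ⟨q, orderOf g / q, hq, ?_, hd⟩
  exact orderOf_pow_orderOf_div (orderOf_pos g).ne' hd

/-- The fixed points of an automorphism of prime order of a group of prime power order. -/
theorem fixed_card {M : Type*} [Group M] [Finite M] {l j q : ℕ} (hl : l.Prime) (hq : q.Prime)
    (hM : Nat.card M = l ^ j) {σ : MulAut M} (hσ : σ ^ q = 1) (hne : σ ≠ 1) :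
    ∃ i < j, l ^ i ≡ l ^ j [MOD q] ∧ l ^ i = Nat.card {x : M // σ x = x} := by
  classical
  haveI : Fact q.Prime := ⟨hq⟩
  haveI : Fact l.Prime := ⟨hl⟩
  have hZ : IsPGroup q (Subgroup.zpowers σ) := IsPGroup.of_card (n := 1) (by
    rw [pow_one, Nat.card_zpowers, orderOf_eq_prime hσ hne])
  let Fix : Subgroup M := σ.toMonoidHom.eqLocus (MonoidHom.id M)
  have hp : IsPGroup l M := IsPGroup.of_card hM
  obtain ⟨i, hi⟩ := IsPGroup.iff_card.1 (hp.to_subgroup Fix)
  have hfix : Nat.card (MulAction.fixedPoints (Subgroup.zpowers σ) M) = Nat.card Fix := by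
    refine Nat.card_congr (Equiv.subtypeEquivRight fun x => ?_)
    constructor
    · intro h
      exact h ⟨σ, Subgroup.mem_zpowers σ⟩
    · rintro h ⟨g, hg⟩
      obtain ⟨n, rfl⟩ := Subgroup.mem_zpowers_iff.1 hg
      show (σ ^ n) x = x
      have h' : σ • x = x := h
      have := MulAction.zpow_smul_eq_iff_minimalPeriod_dvd (a := σ) (b := x) (n := n)
      exact this.2 (by
        rw [show Function.minimalPeriod (fun y => σ • y) x = 1 from
          Function.minimalPeriod_eq_one_iff_isFixedPt.2 h']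
        exact one_dvd _)
  have hlt : i < j := by
    have hne' : Fix ≠ ⊤ := fun h => hne (MulEquiv.ext fun x => h.ge (Subgroup.mem_top x))
    have h1 : Nat.card Fix < Nat.card M :=
      lt_of_le_of_ne (Fix.card_le_card_group) fun e => hne' (Subgroup.eq_top_of_card_eq _ e)
    rw [hi, hM] at h1
    exact (Nat.pow_lt_pow_iff_right hl.one_lt).1 h1
  refine ⟨i, hlt, ?_, hi.symm⟩
  have h2 := hZ.card_modEq_card_fixedPoints M
  rw [hfix, hM, hi] at h2
  exact h2.symm

/-- The primes acting nontrivially on a space of at most `3^4` elements. -/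
theorem prime_of_card_three {M : Type*} [Group M] [Finite M] {j q : ℕ} (hq : q.Prime)
    (hj : j ≤ 4) (hM : Nat.card M = 3 ^ j) {σ : MulAut M} (hσ : σ ^ q = 1) (hne : σ ≠ 1) :
    q = 2 ∨ q = 3 ∨ q = 5 ∧ 4 ≤ j ∨ q = 13 ∧ 3 ≤ j := by
  obtain ⟨i, hi, hmod, -⟩ := fixed_card Nat.prime_three hq hM hσ hne
  have hd : q ∣ 3 ^ j - 3 ^ i :=
    (Nat.modEq_iff_dvd' (Nat.pow_le_pow_right (by norm_num) hi.le)).1 hmod
  rw [show 3 ^ j - 3 ^ i = 3 ^ i * (3 ^ (j - i) - 1) by
    rw [Nat.mul_sub, ← pow_add, Nat.add_sub_cancel' hi.le, mul_one]] at hd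
  rcases hq.dvd_mul.1 hd with h | h
  · exact Or.inr (Or.inl ((Nat.prime_dvd_prime_iff_eq hq Nat.prime_three).1 (hq.dvd_of_dvd_pow h)))
  · obtain ⟨k, hk, hk4, hkj⟩ : ∃ k, 1 ≤ k ∧ k ≤ 4 ∧ k ≤ j ∧ q ∣ 3 ^ k - 1 :=
      ⟨j - i, by omega, by omega, by omega, h⟩
    obtain ⟨hkj, hdk⟩ := hkj
    interval_cases k
    · exact Or.inl ((Nat.prime_dvd_prime_iff_eq hq Nat.prime_two).1 hdk)
    · rcases hq.dvd_mul.1 (show q ∣ 2 * 4 from hdk) with h' | h'
      · exact Or.inl ((Nat.prime_dvd_prime_iff_eq hq Nat.prime_two).1 h')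
      · exact Or.inl ((Nat.prime_dvd_prime_iff_eq hq Nat.prime_two).1
          (hq.dvd_of_dvd_pow (show q ∣ 2 ^ 2 from h')))
    · rcases hq.dvd_mul.1 (show q ∣ 2 * 13 from hdk) with h' | h'
      · exact Or.inl ((Nat.prime_dvd_prime_iff_eq hq Nat.prime_two).1 h')
      · exact Or.inr (Or.inr (Or.inr ⟨(Nat.prime_dvd_prime_iff_eq hq (by norm_num)).1 h', hkj⟩))
    · rcases hq.dvd_mul.1 (show q ∣ 2 ^ 4 * 5 from hdk) with h' | h'
      · exact Or.inl ((Nat.prime_dvd_prime_iff_eq hq Nat.prime_two).1 (hq.dvd_of_dvd_pow h'))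
      · exact Or.inr (Or.inr (Or.inl ⟨(Nat.prime_dvd_prime_iff_eq hq (by norm_num)).1 h', hkj⟩))

/-- The primes acting nontrivially on a group of at most `2^4` elements. -/
theorem prime_of_card_two {M : Type*} [Group M] [Finite M] {j q : ℕ} (hq : q.Prime)
    (hj : j ≤ 4) (hM : Nat.card M = 2 ^ j) {σ : MulAut M} (hσ : σ ^ q = 1) (hne : σ ≠ 1) :
    q = 2 ∨ q = 3 ∨ q = 7 ∨ q = 5 ∧ j = 4 ∧ ∀ x : M, σ x = x → x = 1 := by
  obtain ⟨i, hi, hmod, hcard⟩ := fixed_card Nat.prime_two hq hM hσ hne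
  have hd : q ∣ 2 ^ j - 2 ^ i :=
    (Nat.modEq_iff_dvd' (Nat.pow_le_pow_right (by norm_num) hi.le)).1 hmod
  rw [show 2 ^ j - 2 ^ i = 2 ^ i * (2 ^ (j - i) - 1) by
    rw [Nat.mul_sub, ← pow_add, Nat.add_sub_cancel' hi.le, mul_one]] at hd
  rcases hq.dvd_mul.1 hd with h | h
  · exact Or.inl ((Nat.prime_dvd_prime_iff_eq hq Nat.prime_two).1 (hq.dvd_of_dvd_pow h))
  · obtain ⟨k, hk, hk4, hkji, hdk⟩ : ∃ k, 1 ≤ k ∧ k ≤ 4 ∧ k = j - i ∧ q ∣ 2 ^ k - 1 :=
      ⟨j - i, by omega, by omega, rfl, h⟩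
    interval_cases k
    · exact absurd (Nat.eq_one_of_dvd_one hdk) hq.ne_one
    · exact Or.inr (Or.inl ((Nat.prime_dvd_prime_iff_eq hq Nat.prime_three).1 hdk))
    · exact Or.inr (Or.inr (Or.inl ((Nat.prime_dvd_prime_iff_eq hq (by norm_num)).1 hdk)))
    · rcases hq.dvd_mul.1 (show q ∣ 3 * 5 from hdk) with h' | h'
      · exact Or.inr (Or.inl ((Nat.prime_dvd_prime_iff_eq hq Nat.prime_three).1 h'))
      · refine Or.inr (Or.inr (Or.inr ⟨(Nat.prime_dvd_prime_iff_eq hq (by norm_num)).1 h', by omega,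
          fun x hx => ?_⟩))
        have hi0 : i = 0 := by omega
        rw [hi0, pow_zero] at hcard
        haveI := (Nat.card_eq_one_iff_unique.1 hcard.symm).1
        exact congrArg Subtype.val (Subsingleton.elim (⟨x, hx⟩ : {x : M // σ x = x}) ⟨1, map_one σ⟩)

end CfsgLib.CubicThree
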