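import Cfsg.Agent.Lib.CubicThree.Odd
import Cfsg.Agent.Lib.Coprime.Generation

/-!
# The irreducible situation
-/

set_option autoImplicit false

namespace CfsgLib.CubicThree

open Subgroup

variable {H V : Type*} [Group H] [AddCommGroup V] [Module (ZMod 3) V]

/-- `H = R⟨b⟩` with `R = [R, b]` of order prime to three, faithful and irreducible on `V`, and an `A₄` in it. -/
structure Ctx (π : Representation (ZMod 3) H V) (R : Subgroup H) (b t u : H) : Prop
    extends Frame π b t u where
  nt : Nontrivial V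
  irred : ∀ X : Submodule (ZMod 3) V, (∀ h, ∀ v ∈ X, π h v ∈ X) → X = ⊥ ∨ X = ⊤
  normal : R.Normal
  cop : (Nat.card R).Coprime 3
  gen : R ⊔ zpowers b = ⊤
  comm : ⁅R, zpowers b⁆ = R
  tR : t ∈ R
  solv : Group.IsSolvable H

variable {π : Representation (ZMod 3) H V} {R : Subgroup H} {b t u : H}

/-- Scalar action. -/
def Scal (π : Representation (ZMod 3) H V) (h : H) : Prop := π h = 1 ∨ π h = -1

namespace Ctx

variable [Finite H] [Finite V] (C : Ctx π R b t u)
include C

omit [Finite H] [Finite V] in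
theorem uR : u ∈ R := C.conj_t ▸ C.normal.conj_mem t C.tR b

omit [Finite H] [Finite V] in
theorem scal_sq {h : H} (hh : Scal π h) : h * h = 1 := by
  refine act_eq π C.inj fun v => ?_
  rw [act_mul, act_one]
  rcases hh with e | e <;> rw [e] <;> simp

omit [Finite H] [Finite V] in
theorem scal_eq {g h : H} (hg : Scal π g) (hh : Scal π h) (hg1 : g ≠ 1) (hh1 : h ≠ 1) : g = h := by
  have hne : ∀ x : H, x ≠ 1 → π x ≠ 1 := fun x hx e => hx (C.inj (by rw [e, map_one]))
  exact C.inj ((hg.resolve_left (hne g hg1)).trans (hh.resolve_left (hne h hh1)).symm)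

omit [Finite H] [Finite V] in
theorem scal_central {h : H} (hh : Scal π h) (g : H) : h * g = g * h := by
  refine act_eq π C.inj fun v => ?_
  rw [act_mul, act_mul]
  rcases hh with e | e <;> rw [e] <;> simp

omit [Finite H] [Finite V] in
/-- A normal subgroup centralised by `b` is central. -/
theorem central_of_fixed {A : Subgroup H} (hA : A.Normal) (hb : ∀ a ∈ A, b * a = a * b) :
    ∀ a ∈ A, ∀ h, a * h = h * a := by
  haveI := hA
  have hbC : zpowers b ≤ centralizer (A : Set H) :=
    zpowers_le.2 (mem_centralizer_iff.2 fun a ha => (hb a ha).symm)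
  have hRC : R ≤ centralizer (A : Set H) := by
    rw [← C.comm, commutator_le]
    intro r _ c hc
    have hn : (centralizer (A : Set H)).Normal := inferInstance
    rw [commutatorElement_def]
    exact mul_mem (hn.conj_mem c (hbC hc) r) (inv_mem (hbC hc))
  intro a ha h
  exact mem_centralizer_iff.1 ((sup_le hRC hbC) (C.gen.ge (mem_top h))) a ha

theorem scal_of_fixed {A : Subgroup H} (hA : A.Normal) (hb : ∀ a ∈ A, b * a = a * b) :
    ∀ a ∈ A, Scal π a := fun a ha =>
  haveI := C.nt
  C.toFrame.scalar_of_central C.irred (C.central_of_fixed hA hb a ha)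

/-- There are no normal subgroups of odd order inside `R`. -/
theorem odd_trivial {A : Subgroup H} (hA : A.Normal) (hAR : A ≤ R) (hodd : (Nat.card A).Coprime 2) :
    A = ⊥ := by
  have h6 : (Nat.card A).Coprime 6 := by
    rw [show 6 = 2 * 3 from rfl]
    exact hodd.mul_right (C.cop.coprime_dvd_left (card_dvd_of_le hAR))
  refine eq_bot_iff.2 fun a ha => ?_
  have hb := C.toFrame.comm_b_of_odd h6 (fun y hy => hA.conj_mem y hy t) (fun y hy => hA.conj_mem y hy u)
  have h2 : a * a = 1 := C.scal_sq (C.scal_of_fixed hA hb a ha)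
  rw [mem_bot, ← orderOf_eq_one_iff]
  exact Nat.eq_one_of_dvd_coprimes (hodd.coprime_dvd_left
    (by rw [← Subgroup.orderOf_mk a ha]; exact orderOf_dvd_natCard _)) dvd_rfl
    (orderOf_dvd_of_pow_eq_one (by rw [pow_two, h2]))

omit [Finite V] in
/-- No point of an abelian quotient of `R` is fixed by `b`. -/
theorem fixed_free {H' : Type*} [Group H'] [Finite H'] (f : H →* H')
    (hab : ∀ x ∈ R, ∀ y ∈ R, f x * f y = f y * f x) {r : H} (hr : r ∈ R)
    (hfix : f b * f r = f r * f b) : f r = 1 := by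
  haveI := C.normal
  set R' := R.map f
  set B' := (zpowers b).map f
  have hB' : B' ≤ normalizer (R' : Set H') := by
    rintro _ ⟨c, -, rfl⟩
    exact le_normalizer_map f ⟨c, by rw [normalizer_eq_top]; exact mem_top _, rfl⟩
  have hcop : (Nat.card B').Coprime (Nat.card R') := by
    refine (Nat.Coprime.coprime_dvd_left (card_map_dvd _ f) ?_).coprime_dvd_right (card_map_dvd _ f)
    rw [Nat.card_zpowers]
    exact (Nat.Coprime.coprime_dvd_left (orderOf_dvd_of_pow_eq_one C.b3) C.cop.symm)
  have hcomm : IsMulCommutative R' := ⟨⟨fun x y => Subtype.ext (by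
    obtain ⟨x', hx', hxe⟩ := x.2
    obtain ⟨y', hy', hye⟩ := y.2
    show (x : H') * y = y * x
    rw [← hxe, ← hye, hab x' hx' y' hy'])⟩⟩
  have h := CfsgLib.Coprime.commutator_inf_centralizer_eq_bot hcomm hB' hcop
  rw [← mem_bot, ← h, ← map_commutator, C.comm]
  refine ⟨mem_map_of_mem _ hr, mem_centralizer_iff.2 ?_⟩
  rintro _ ⟨c, hc, rfl⟩
  obtain ⟨k, rfl⟩ := mem_zpowers_iff.1 hc
  rw [map_zpow]
  exact (Commute.zpow_left (show Commute (f b) (f r) from hfix) k).eq

/-- An abelian normal `2`-subgroup of `R` with scalar involutions is scalar. -/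
theorem scal_of_abelian {A : Subgroup H} (hA : A.Normal) (hp : IsPGroup 2 A)
    (hab : ∀ x ∈ A, ∀ y ∈ A, x * y = y * x) (hinv : ∀ a ∈ A, a * a = 1 → Scal π a) :
    ∀ a ∈ A, Scal π a := by
  refine C.scal_of_fixed hA ?_
  have key : ∀ k, ∀ a ∈ A, a ^ 2 ^ k = 1 → b * a = a * b := by
    intro k
    induction k with
    | zero => intro a _ h; rw [pow_zero, pow_one] at h; simp [h]
    | succ k ih =>
      intro a ha h
      have hsq := ih (a * a) (mul_mem ha ha) (by rw [← pow_two, ← pow_mul, ← pow_succ']; exact h)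
      set d := a⁻¹ * (b * a * b⁻¹) with hd
      have hdA : d ∈ A := mul_mem (inv_mem ha) (hA.conj_mem a ha b)
      have hd2 : d * d = 1 := by
        have hba := hA.conj_mem a ha b
        calc d * d = a⁻¹ * ((b * a * b⁻¹) * a⁻¹) * (b * a * b⁻¹) := by rw [hd]; group
          _ = a⁻¹ * (a⁻¹ * (b * a * b⁻¹)) * (b * a * b⁻¹) := by rw [hab _ hba _ (inv_mem ha)]
          _ = (a * a)⁻¹ * (b * (a * a) * b⁻¹) := by group
          _ = 1 := by rw [hsq, mul_inv_cancel_right, inv_mul_cancel]
      have hdb : b * d * b⁻¹ = d := by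
        rw [← C.scal_central (hinv d hdA hd2) b, mul_inv_cancel_right]
      have h1 : b * a * b⁻¹ = a * d := by rw [hd]; group
      have h2 : b * (a * d) * b⁻¹ = a * d * d := by
        calc b * (a * d) * b⁻¹ = (b * a * b⁻¹) * (b * d * b⁻¹) := by group
          _ = a * d * d := by rw [h1, hdb]
      have h3 : b * (a * d * d) * b⁻¹ = a * d := by
        rw [mul_assoc a d d, hd2, mul_one, h1]
      have h4 : b ^ 3 * a * (b ^ 3)⁻¹ = a * d := by
        calc b ^ 3 * a * (b ^ 3)⁻¹ = b * (b * (b * a * b⁻¹) * b⁻¹) * b⁻¹ := by rw [pow_three]; group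
          _ = a * d := by rw [h1, h2, h3]
      rw [C.b3, one_mul, inv_one, mul_one, left_eq_mul] at h4
      rw [h4, mul_one] at h1
      exact mul_inv_eq_iff_eq_mul.1 h1
  intro a ha
  obtain ⟨k, hk⟩ := hp ⟨a, ha⟩
  exact key k a ha (congrArg Subtype.val hk)

end Ctx

end CfsgLib.CubicThree
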