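import Cfsg.Agent.Lib.CubicThree.Frame

/-!
# The fixed points of a group of order prime to three and their complement
-/

set_option autoImplicit false

namespace CfsgLib.CubicThree

open Subgroup

variable {G E : Type*} [Group G] [AddCommGroup E] [Module (ZMod 3) E]

/-- The averaged action. -/
def avg (ρ : Representation (ZMod 3) G E) (R : Subgroup G) [Fintype R] : E →ₗ[ZMod 3] E :=
  ∑ r : R, ρ (r : G)

theorem avg_apply (ρ : Representation (ZMod 3) G E) (R : Subgroup G) [Fintype R] (v : E) :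
    avg ρ R v = ∑ r : R, ρ (r : G) v := by
  rw [avg, LinearMap.sum_apply]

/-- Coprime action: a complement to the fixed points, invariant under the normaliser, with no fixed
points in any of its invariant sections. -/
theorem exists_fixed_complement (ρ : Representation (ZMod 3) G E) (R : Subgroup G) [Finite R]
    (hcop : (Nat.card R).Coprime 3) :
    ∃ F₀ F₁ : Submodule (ZMod 3) E, F₀ ⊓ F₁ = ⊥ ∧ F₀ ⊔ F₁ = ⊤ ∧
      (∀ v, v ∈ F₁ ↔ ∀ r ∈ R, ρ r v = v) ∧
      (∀ g ∈ normalizer (R : Set G), ∀ v ∈ F₀, ρ g v ∈ F₀) ∧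
      (∀ (N : Submodule (ZMod 3) E), ∀ v ∈ F₀, (∀ r ∈ R, ρ r v - v ∈ N) → v ∈ N) := by
  classical
  haveI : Fintype R := Fintype.ofFinite R
  set T := avg ρ R
  haveI : Fact (Nat.Prime 3) := ⟨Nat.prime_three⟩
  set n : ZMod 3 := (Fintype.card R : ZMod 3) with hn
  have hn0 : n ≠ 0 := by
    rw [hn, Ne, ZMod.natCast_eq_zero_iff]
    rw [← Nat.card_eq_fintype_card]
    intro h
    exact absurd (Nat.eq_one_of_dvd_coprimes hcop h dvd_rfl) (by norm_num)
  let F₁ : Submodule (ZMod 3) E :=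
    { carrier := {v | ∀ r ∈ R, ρ r v = v}
      zero_mem' := fun r _ => map_zero _
      add_mem' := fun {x y} hx hy r hr => by rw [map_add, hx r hr, hy r hr]
      smul_mem' := fun c x hx r hr => by rw [map_smul, hx r hr] }
  have hT1 : ∀ v, T v ∈ F₁ := fun v g hg => by
    show ρ g (avg ρ R v) = avg ρ R v
    rw [avg_apply, map_sum]
    refine Fintype.sum_equiv (Equiv.mulLeft (⟨g, hg⟩ : R)) _ _ fun r => ?_
    show ρ g (ρ r v) = ρ (g * r) v
    rw [act_mul]
  have hT2 : ∀ v ∈ F₁, T v = n • v := fun v hv => by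
    show avg ρ R v = n • v
    rw [avg_apply, Finset.sum_congr rfl (fun (r : R) _ => hv r r.2), Finset.sum_const,
      Finset.card_univ, hn, Nat.cast_smul_eq_nsmul]
  refine ⟨LinearMap.ker T, F₁, ?_, ?_, fun v => Iff.rfl, ?_, ?_⟩
  · refine eq_bot_iff.2 fun v hv => ?_
    obtain ⟨h1, h2⟩ := Submodule.mem_inf.1 hv
    rw [LinearMap.mem_ker, hT2 v h2] at h1
    exact (Submodule.mem_bot _).2 ((smul_eq_zero.1 h1).resolve_left hn0)
  · refine eq_top_iff.2 fun v _ => ?_
    refine Submodule.mem_sup.2 ⟨v - n⁻¹ • T v, ?_, n⁻¹ • T v, F₁.smul_mem _ (hT1 v), sub_add_cancel _ _⟩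
    rw [LinearMap.mem_ker, map_sub, map_smul, hT2 _ (hT1 v), smul_smul, inv_mul_cancel₀ hn0, one_smul,
      sub_self]
  · intro g hg v hv
    rw [LinearMap.mem_ker] at hv ⊢
    have h1 : T (ρ g v) = ρ g (T v) := by
      show avg ρ R (ρ g v) = ρ g (avg ρ R v)
      rw [avg_apply, avg_apply, map_sum]
      symm
      refine Fintype.sum_equiv
        { toFun := fun r : R => (⟨g * r * g⁻¹, (mem_normalizer_iff.1 hg r).1 r.2⟩ : R)
          invFun := fun r : R => (⟨g⁻¹ * r * g, (mem_normalizer_iff.1 hg _).2 (by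
            rw [show g * (g⁻¹ * r * g) * g⁻¹ = (r : G) by group]; exact r.2)⟩ : R)
          left_inv := fun r => Subtype.ext (by group)
          right_inv := fun r => Subtype.ext (by group) } _ _ fun r => ?_
      show ρ g (ρ r v) = ρ (g * r * g⁻¹) (ρ g v)
      rw [← act_mul, ← act_mul, inv_mul_cancel_right]
    rw [h1, hv, map_zero]
  · intro N v hv h
    rw [LinearMap.mem_ker] at hv
    have h1 : ∑ r : R, (ρ (r : G) v - v) ∈ N := Submodule.sum_mem _ fun r _ => h r r.2
    rw [Finset.sum_sub_distrib, ← avg_apply, show avg ρ R v = 0 from hv, Finset.sum_const, Finset.card_univ,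
      ← Nat.cast_smul_eq_nsmul (ZMod 3), ← hn, zero_sub, Submodule.neg_mem_iff] at h1
    have := N.smul_mem n⁻¹ h1
    rwa [smul_smul, inv_mul_cancel₀ hn0, one_smul] at this

end CfsgLib.CubicThree
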