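import Cfsg.Agent.Lib.CubicThree.Frame

/-!
# Irreducibility of the moved part
-/

set_option autoImplicit false

namespace CfsgLib.CubicThree

open Subgroup Module
open scoped commutatorElement

variable {G E : Type*} [Group G] [AddCommGroup E] [Module (ZMod 3) E] [Finite E]

/-- Elements fixing a part of a section pointwise. -/
theorem commutator_fixes (ρ : Representation (ZMod 3) G E) {R : Subgroup G} {b : G}
    (hcomm : ⁅R, zpowers b⁆ = R) {X N : Submodule (ZMod 3) E} (hNX : N ≤ X)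
    (hX : ∀ g ∈ R ⊔ zpowers b, ∀ v ∈ X, ρ g v ∈ X) (hN : ∀ g ∈ R ⊔ zpowers b, ∀ v ∈ N, ρ g v ∈ N)
    (hb : ∀ v ∈ X, ρ b v - v ∈ N) : ∀ r ∈ R, ∀ v ∈ X, ρ r v - v ∈ N := by
  have hadd : ∀ g h : G, h ∈ R ⊔ zpowers b → g ∈ R ⊔ zpowers b →
      (∀ v ∈ X, ρ g v - v ∈ N) → (∀ v ∈ X, ρ h v - v ∈ N) → ∀ v ∈ X, ρ (g * h) v - v ∈ N := by
    intro g h hh _ h1 h2 v hv
    rw [act_mul, show ρ g (ρ h v) - v = (ρ g (ρ h v) - ρ h v) + (ρ h v - v) by abel]
    exact add_mem (h1 _ (hX h hh v hv)) (h2 v hv)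
  have hinv : ∀ g ∈ R ⊔ zpowers b, (∀ v ∈ X, ρ g v - v ∈ N) → ∀ v ∈ X, ρ g⁻¹ v - v ∈ N := by
    intro g hg h v hv
    have h1 := N.neg_mem (h _ (hX g⁻¹ (inv_mem hg) v hv))
    rwa [← act_mul, mul_inv_cancel, act_one, neg_sub] at h1
  let K : Subgroup G :=
    { carrier := {g | g ∈ R ⊔ zpowers b ∧ ∀ v ∈ X, ρ g v - v ∈ N}
      one_mem' := ⟨one_mem _, fun v _ => by rw [act_one, sub_self]; exact zero_mem N⟩
      mul_mem' := fun {g h} hg hh => ⟨mul_mem hg.1 hh.1, hadd g h hh.1 hg.1 hg.2 hh.2⟩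
      inv_mem' := fun {g} hg => ⟨inv_mem hg.1, hinv g hg.1 hg.2⟩ }
  have hbK : zpowers b ≤ K := zpowers_le.2 ⟨mem_sup_right (mem_zpowers b), hb⟩
  have hle : ⁅R, zpowers b⁆ ≤ K := by
    rw [commutator_le]
    intro m hm c hc
    have hconj : m * c * m⁻¹ ∈ K := by
      refine ⟨mul_mem (mul_mem (mem_sup_left hm) (mem_sup_right hc)) (inv_mem (mem_sup_left hm)), fun v hv => ?_⟩
      have h1 := hN m (mem_sup_left hm) _ ((hbK hc).2 _ (hX m⁻¹ (inv_mem (mem_sup_left hm)) v hv))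
      rwa [map_sub, ← act_mul, ← act_mul, ← act_mul, mul_inv_cancel, act_one] at h1
    rw [commutatorElement_def]
    exact mul_mem hconj (inv_mem (hbK hc))
  intro r hr
  exact (hle (hcomm.ge hr)).2

/-- A vector of weight `(1, -1)` outside an invariant submodule. -/
theorem exists_weight_outside (ρ : Representation (ZMod 3) G E) {b t u : G}
    (t2 : t * t = 1) (u2 : u * u = 1) (tu : t * u = u * t) (conj_t : b * t * b⁻¹ = u)
    (conj_u : b * u * b⁻¹ = t * u) (b3 : b ^ 3 = 1) {Z K : Submodule (ZMod 3) E}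
    (hZ : ∀ g, g = t ∨ g = u ∨ g = b → ∀ v ∈ Z, ρ g v ∈ Z)
    (hK : ∀ g, g = t ∨ g = u ∨ g = b → ∀ v ∈ K, ρ g v ∈ K)
    (hmov : ∃ v ∈ Z, ρ t v - v ∉ K) :
    ∃ x ∈ Z, x ∉ K ∧ ρ t x = x ∧ ρ u x = -x := by
  obtain ⟨v, hv, hvK⟩ := hmov
  have tt : ∀ v, ρ t (ρ t v) = v := fun v => by rw [← act_mul, t2, act_one]
  have uu : ∀ v, ρ u (ρ u v) = v := fun v => by rw [← act_mul, u2, act_one]
  have tu' : ∀ v, ρ t (ρ u v) = ρ u (ρ t v) := fun v => by rw [← act_mul, tu, act_mul]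
  have t_b : ∀ v, ρ t (ρ b v) = ρ b (ρ t (ρ u v)) := fun v => by
    have h : t * b = b * (t * u) := by
      have h' : b * (t * u) * b⁻¹ = t := by
        calc b * (t * u) * b⁻¹ = (b * t * b⁻¹) * (b * u * b⁻¹) := by group
          _ = u * (t * u) := by rw [conj_t, conj_u]
          _ = t := by rw [← mul_assoc, ← tu, mul_assoc, u2, mul_one]
      calc t * b = b * (t * u) * b⁻¹ * b := by rw [h']
        _ = b * (t * u) := by rw [inv_mul_cancel_right]
    rw [← act_mul, h, act_mul, act_mul]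
  have u_b : ∀ v, ρ u (ρ b v) = ρ b (ρ t v) := fun v => by
    rw [← act_mul, ← conj_t, inv_mul_cancel_right, act_mul]
  have hbK : ∀ x, ρ b x ∈ K → x ∈ K := fun x hx => by
    have h := hK b (Or.inr (Or.inr rfl)) _ (hK b (Or.inr (Or.inr rfl)) _ hx)
    rwa [← act_mul, ← act_mul, ← pow_three', b3, act_one] at h
  set w := v - ρ t v with hw
  have hwK : w ∉ K := fun h => hvK (by rw [← neg_sub, Submodule.neg_mem_iff]; exact h)
  have hwZ : w ∈ Z := sub_mem hv (hZ t (Or.inl rfl) v hv)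
  have htw : ρ t w = -w := by rw [hw, map_sub, tt, neg_sub]
  by_cases hp : w + ρ u w ∈ K
  · set y := w - ρ u w with hy
    have hyK : y ∉ K := fun h => hwK (by
      have h2 := K.neg_mem (add_mem hp h)
      have e : -(w + ρ u w + (w - ρ u w)) = w := by
        linear_combination (norm := module) -three_smul_eq_zero w
      rwa [hy, e] at h2)
    have hyt : ρ t y = -y := by rw [hy, map_sub, tu', htw, map_neg]; abel
    have hyu : ρ u y = -y := by rw [hy, map_sub, uu, neg_sub]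
    refine ⟨ρ b y, hZ b (Or.inr (Or.inr rfl)) y (sub_mem hwZ (hZ u (Or.inr (Or.inl rfl)) w hwZ)),
      fun h => hyK (hbK y h), ?_, ?_⟩
    · rw [t_b, hyu, map_neg, hyt, neg_neg]
    · rw [u_b, hyt, map_neg]
  · set y := w + ρ u w with hy
    have hyt : ρ t y = -y := by rw [hy, map_add, tu', htw, map_neg]; abel
    have hyu : ρ u y = y := by rw [hy, map_add, uu, add_comm]
    have hyZ : y ∈ Z := add_mem hwZ (hZ u (Or.inr (Or.inl rfl)) w hwZ)
    have h1t : ρ t (ρ b y) = -ρ b y := by rw [t_b, hyu, hyt, map_neg]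
    have h1u : ρ u (ρ b y) = -ρ b y := by rw [u_b, hyt, map_neg]
    refine ⟨ρ b (ρ b y), hZ b (Or.inr (Or.inr rfl)) _ (hZ b (Or.inr (Or.inr rfl)) _ hyZ),
      fun h => hp (hbK _ (hbK _ h)), ?_, ?_⟩
    · rw [t_b, h1u, map_neg, h1t, neg_neg]
    · rw [u_b, h1t, map_neg]

/-- Two independent images under `ρ b - 1`. -/
theorem independent_images (ρ : Representation (ZMod 3) G E) {b t u : G}
    (u2 : u * u = 1) (tu : t * u = u * t) (conj_t : b * t * b⁻¹ = u)
    (conj_u : b * u * b⁻¹ = t * u) {K : Submodule (ZMod 3) E}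
    (hK : ∀ g, g = t ∨ g = u → ∀ v ∈ K, ρ g v ∈ K)
    (hbK : ∀ x, ρ b x ∈ K → x ∈ K) {x : E} (hx : x ∉ K) (hxt : ρ t x = x) (hxu : ρ u x = -x)
    {a c : ZMod 3} (h : a • (ρ b x - x) + c • (ρ b (ρ b x) - ρ b x) ∈ K) : a = 0 ∧ c = 0 := by
  have t_b : ∀ v, ρ t (ρ b v) = ρ b (ρ t (ρ u v)) := fun v => by
    have h : t * b = b * (t * u) := by
      have h' : b * (t * u) * b⁻¹ = t := by
        calc b * (t * u) * b⁻¹ = (b * t * b⁻¹) * (b * u * b⁻¹) := by group
          _ = u * (t * u) := by rw [conj_t, conj_u]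
          _ = t := by rw [← mul_assoc, ← tu, mul_assoc, u2, mul_one]
      calc t * b = b * (t * u) * b⁻¹ * b := by rw [h']
        _ = b * (t * u) := by rw [inv_mul_cancel_right]
    rw [← act_mul, h, act_mul, act_mul]
  have u_b : ∀ v, ρ u (ρ b v) = ρ b (ρ t v) := fun v => by
    rw [← act_mul, ← conj_t, inv_mul_cancel_right, act_mul]
  set p := -(a • x) with hp
  set q := (a - c) • ρ b x with hq
  set r := c • ρ b (ρ b x) with hr
  have hsum : p + q + r ∈ K := by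
    convert h using 1
    simp only [hp, hq, hr]
    module
  have h1t : ρ t (ρ b x) = -ρ b x := by rw [t_b, hxu, map_neg, hxt, map_neg]
  have h1u : ρ u (ρ b x) = ρ b x := by rw [u_b, hxt]
  have h2t : ρ t (ρ b (ρ b x)) = -ρ b (ρ b x) := by rw [t_b, h1u, h1t, map_neg]
  have h2u : ρ u (ρ b (ρ b x)) = -ρ b (ρ b x) := by rw [u_b, h1t, map_neg]
  have ht := hK t (Or.inl rfl) _ hsum
  rw [map_add, map_add, show ρ t p = p by rw [hp, map_neg, map_smul, hxt],
    show ρ t q = -q by rw [hq, map_smul, h1t, smul_neg],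
    show ρ t r = -r by rw [hr, map_smul, h2t, smul_neg]] at ht
  have hpK : p ∈ K := by
    have h2 := K.neg_mem (add_mem hsum ht)
    have e : -(p + q + r + (p + -q + -r)) = p := by
      linear_combination (norm := module) -three_smul_eq_zero p
    rwa [e] at h2
  have hqr : q + r ∈ K := by
    have h2 := sub_mem hsum hpK
    rwa [show p + q + r - p = q + r by abel] at h2
  have hu := hK u (Or.inr rfl) _ hqr
  rw [map_add, show ρ u q = q by rw [hq, map_smul, h1u],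
    show ρ u r = -r by rw [hr, map_smul, h2u, smul_neg]] at hu
  have hqK : q ∈ K := by
    have h2 := K.neg_mem (add_mem hqr hu)
    have e : -(q + r + (q + -r)) = q := by
      linear_combination (norm := module) -three_smul_eq_zero q
    rwa [e] at h2
  have ha : a = 0 := by
    by_contra ha
    rw [hp, Submodule.neg_mem_iff, K.smul_mem_iff ha] at hpK
    exact hx hpK
  refine ⟨ha, ?_⟩
  by_contra hc
  rw [hq, ha, zero_sub, neg_smul, Submodule.neg_mem_iff, K.smul_mem_iff hc] at hqK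
  exact hx (hbK x hqK)

/-- Irreducibility of the moved part. -/
theorem irreducible_moved (ρ : Representation (ZMod 3) G E) (hinj : Function.Injective ρ)
    {R : Subgroup G} {b t u : G}
    (t2 : t * t = 1) (u2 : u * u = 1) (tu : t * u = u * t) (t1 : t ≠ 1) (conj_t : b * t * b⁻¹ = u)
    (conj_u : b * u * b⁻¹ = t * u) (b3 : b ^ 3 = 1)
    (rank : finrank (ZMod 3) (LinearMap.range (ρ b - 1)) ≤ 2)
    (tR : t ∈ R) (uR : u ∈ R) (hcomm : ⁅R, zpowers b⁆ = R)
    {F₀ F₁ : Submodule (ZMod 3) E} (htop : F₀ ⊔ F₁ = ⊤)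
    (hfix : ∀ v ∈ F₁, ∀ r ∈ R, ρ r v = v)
    (hF₀ : ∀ g ∈ R ⊔ zpowers b, ∀ v ∈ F₀, ρ g v ∈ F₀)
    (hfree : ∀ (N : Submodule (ZMod 3) E), ∀ v ∈ F₀, (∀ r ∈ R, ρ r v - v ∈ N) → v ∈ N)
    {N : Submodule (ZMod 3) E} (hNF : N ≤ F₀) (hN : ∀ g ∈ R ⊔ zpowers b, ∀ v ∈ N, ρ g v ∈ N) :
    N = ⊥ ∨ N = F₀ := by
  by_contra hne
  push Not at hne
  obtain ⟨hne0, hne1⟩ := hne
  -- `b` moves both layers
  obtain ⟨n, hn, hnb⟩ : ∃ n ∈ N, ρ b n - n ≠ 0 := by
    by_contra h
    push Not at h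
    refine hne0 (eq_bot_iff.2 fun v hv => hfree ⊥ v (hNF hv) fun r hr => ?_)
    exact commutator_fixes ρ hcomm (X := N) (N := ⊥) bot_le hN
      (fun g _ w hw => by rw [(Submodule.mem_bot _).1 hw, map_zero]; exact zero_mem _)
      (fun w hw => by rw [h w hw]; exact zero_mem _) r hr v hv
  obtain ⟨y, hy, hyb⟩ : ∃ y ∈ F₀, ρ b y - y ∉ N := by
    by_contra h
    push Not at h
    exact hne1 (le_antisymm hNF fun v hv => hfree N v hv fun r hr =>
      commutator_fixes ρ hcomm hNF hF₀ hN h r hr v hv)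
  have hmem : ∀ g, g = t ∨ g = u ∨ g = b → g ∈ R ⊔ zpowers b := by
    rintro g (rfl | rfl | rfl)
    exacts [mem_sup_left tR, mem_sup_left uR, mem_sup_right (mem_zpowers _)]
  have three : ∀ p q s : E, p ∈ LinearMap.range (ρ b - 1) → q ∈ LinearMap.range (ρ b - 1) →
      s ∈ LinearMap.range (ρ b - 1) →
      (∀ a c d : ZMod 3, a • p + c • q + d • s = 0 → a = 0 ∧ c = 0 ∧ d = 0) → False := by
    intro p q s hp hq hs hind
    have hli : LinearIndependent (ZMod 3) ![p, q, s] := Fintype.linearIndependent_iff.2 fun g hg => by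
      rw [Fin.sum_univ_three] at hg
      obtain ⟨h0, h1, h2⟩ := hind (g 0) (g 1) (g 2) (by simpa using hg)
      intro i; fin_cases i <;> assumption
    have hle : Submodule.span (ZMod 3) (Set.range ![p, q, s]) ≤ LinearMap.range (ρ b - 1) :=
      Submodule.span_le.2 (by rintro _ ⟨i, rfl⟩; fin_cases i <;> assumption)
    have h := (Submodule.finrank_mono hle).trans rank
    rw [finrank_span_eq_card hli, Fintype.card_fin] at h
    omega
  have hmemr : ∀ v, ρ b v - v ∈ LinearMap.range (ρ b - 1) := fun v => ⟨v, rfl⟩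
  have hbinv : ∀ (K : Submodule (ZMod 3) E), (∀ g ∈ R ⊔ zpowers b, ∀ v ∈ K, ρ g v ∈ K) →
      ∀ x, ρ b x ∈ K → x ∈ K := fun K hK x hx => by
    have h := hK b⁻¹ (inv_mem (mem_sup_right (mem_zpowers b))) _ hx
    rwa [← act_mul, inv_mul_cancel, act_one] at h
  by_cases hQ : ∃ v ∈ N, ρ t v - v ∉ (⊥ : Submodule (ZMod 3) E)
  · have hbot : ∀ g ∈ R ⊔ zpowers b, ∀ v ∈ (⊥ : Submodule (ZMod 3) E), ρ g v ∈ (⊥ : Submodule (ZMod 3) E) :=
      fun g _ v hv => by rw [(Submodule.mem_bot _).1 hv, map_zero]; exact zero_mem _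
    obtain ⟨x, hxN, hx, hxt, hxu⟩ := exists_weight_outside ρ t2 u2 tu conj_t conj_u b3 (Z := N)
      (fun g hg => hN g (hmem g hg)) (fun g hg => hbot g (hmem g hg)) hQ
    have hbx := hN b (hmem b (Or.inr (Or.inr rfl))) x hxN
    refine three _ _ _ (hmemr x) (hmemr (ρ b x)) (hmemr y) fun a c d h => ?_
    have hd : d = 0 := by
      by_contra hd
      apply hyb
      have h1 : d • (ρ b y - y) ∈ N := by
        rw [show d • (ρ b y - y) = -(a • (ρ b x - x) + c • (ρ b (ρ b x) - ρ b x)) by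
          rw [eq_neg_iff_add_eq_zero, ← h]; abel]
        exact N.neg_mem (add_mem (N.smul_mem _ (sub_mem hbx hxN))
          (N.smul_mem _ (sub_mem (hN b (hmem b (Or.inr (Or.inr rfl))) _ hbx) hbx)))
      exact (N.smul_mem_iff hd).1 h1
    rw [hd, zero_smul, add_zero] at h
    obtain ⟨ha, hc⟩ := independent_images ρ u2 tu conj_t conj_u
      (fun g hg => hbot g (hmem g (by tauto))) (hbinv ⊥ hbot) hx hxt hxu (a := a) (c := c)
      ((Submodule.mem_bot _).2 h)
    exact ⟨ha, hc, hd⟩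
  · push Not at hQ
    have hex : ∃ v ∈ F₀, ρ t v - v ∉ N := by
      by_contra h
      push Not at h
      refine t1 (act_eq ρ hinj fun v => ?_)
      obtain ⟨v0, h0, v1, h1, rfl⟩ := Submodule.mem_sup.1 (htop.ge (Submodule.mem_top : v ∈ ⊤))
      rw [act_one, map_add, hfix v1 h1 t tR]
      congr 1
      set m := ρ t v0 - v0 with hm
      have e1 : ρ t v0 = v0 + m := by rw [hm]; abel
      have e2 : ρ t m = m := sub_eq_zero.1 ((Submodule.mem_bot _).1 (hQ m (h v0 h0)))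
      have e3 : ρ t (ρ t v0) = v0 := by rw [← act_mul, t2, act_one]
      rw [e1, map_add, e1, e2] at e3
      have e4 : m = 0 := by
        linear_combination (norm := module) (three_smul_eq_zero m) - e3
      rw [e1, e4, add_zero]
    obtain ⟨x, hxF, hx, hxt, hxu⟩ := exists_weight_outside ρ t2 u2 tu conj_t conj_u b3 (Z := F₀)
      (fun g hg => hF₀ g (hmem g hg)) (fun g hg => hN g (hmem g hg)) hex
    refine three _ _ _ (hmemr x) (hmemr (ρ b x)) (hmemr n) fun a c d h => ?_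
    obtain ⟨ha, hc⟩ := independent_images ρ u2 tu conj_t conj_u
      (fun g hg => hN g (hmem g (by tauto))) (hbinv N hN) hx hxt hxu (a := a) (c := c) (by
        rw [show a • (ρ b x - x) + c • (ρ b (ρ b x) - ρ b x) = -(d • (ρ b n - n)) by
          rw [eq_neg_iff_add_eq_zero]; exact h]
        exact N.neg_mem (N.smul_mem _ (sub_mem (hN b (hmem b (Or.inr (Or.inr rfl))) n hn) hn)))
    refine ⟨ha, hc, ?_⟩
    rw [ha, hc, zero_smul, zero_smul, add_zero, zero_add] at h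
    exact (smul_eq_zero.1 h).resolve_right hnb

end CfsgLib.CubicThree
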