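import Cfsg.Agent.Lib.Solvable.HallHigman
import Cfsg.Agent.Lib.Solvable.Nilpotent
import Cfsg.Agent.Lib.Solvable.PCore
import Cfsg.Agent.Lib.Invol.Basic
import Cfsg.Prelude.Def_Transfer

/-!
# A four-group normalised by the centre of a Sylow three-subgroup lies in the three-prime core
-/

set_option autoImplicit false

namespace CfsgLib.CubicThree

open Subgroup
open scoped commutatorElement

variable {S : Type*} [Group S] [Finite S] [Group.IsSolvable S]

/-- The centre of a Sylow three-subgroup lies in `O_{3',3}`. -/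
theorem mem_preimage_pCore (B : Subgroup S) (hB : Nat.card B = 3) {b : S} (hb : zpowers b = B)
    (P : Sylow 3 S) (hBZ : (center (P : Subgroup S)).map (P : Subgroup S).subtype = B)
    [(Cfsg.pPrimeCore 3 S).Normal] :
    b ∈ (Cfsg.pCore 3 (S ⧸ Cfsg.pPrimeCore 3 S)).comap (QuotientGroup.mk' (Cfsg.pPrimeCore 3 S)) := by
  haveI : Fact (Nat.Prime 3) := ⟨Nat.prime_three⟩
  set M := Cfsg.pPrimeCore 3 S
  set f := QuotientGroup.mk' M
  haveI hKn := CfsgLib.Solvable.pCore_normal 3 (S ⧸ M)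
  set K := Cfsg.pCore 3 (S ⧸ M)
  haveI : Group.IsSolvable (S ⧸ M) := solvable_of_surjective (QuotientGroup.mk'_surjective M)
  have hMcop : (Nat.card M).Coprime 3 := CfsgLib.Solvable.pPrimeCore_coprime 3
  have hbM : b ∉ M := fun h => by
    have h3 : Nat.card B ∣ Nat.card M := card_dvd_of_le (hb ▸ zpowers_le.2 h)
    rw [hB] at h3
    exact absurd (Nat.eq_one_of_dvd_coprimes hMcop h3 dvd_rfl) (by norm_num)
  have hKne : K ≠ ⊥ := by
    intro h
    have h1 := CfsgLib.Solvable.centralizer_pCore_le 3 (CfsgLib.Solvable.pPrimeCore_quotient_eq_bot (G := S) 3)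
    change centralizer (K : Set (S ⧸ M)) ≤ K at h1
    rw [h, coe_bot] at h1
    have h2 : f b ∈ (⊥ : Subgroup (S ⧸ M)) := h1 (mem_centralizer_iff.2 fun x hx => by
      rw [Set.mem_singleton_iff.1 hx, one_mul, mul_one])
    exact hbM ((QuotientGroup.eq_one_iff b).1 (mem_bot.1 h2))
  haveI hK' : (K.comap f).Normal := hKn.comap f
  -- an element of order three of the preimage
  obtain ⟨k, hk⟩ : ∃ k : K.comap f, orderOf k = 3 := by
    refine exists_prime_orderOf_dvd_card' 3 ?_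
    obtain ⟨n, hn⟩ := IsPGroup.iff_card.1 (CfsgLib.Solvable.pCore_isPGroup (G := S ⧸ M) 3)
    have hn0 : n ≠ 0 := fun h => hKne (Subgroup.card_eq_one.1 (by rw [hn, h, pow_zero]))
    have h3 : 3 ∣ Nat.card K := hn ▸ dvd_pow_self 3 hn0
    refine h3.trans ?_
    conv_lhs => rw [← map_comap_eq_self_of_surjective (QuotientGroup.mk'_surjective M) K]
    exact card_map_dvd _ _
  have hk' : orderOf (k : S) = 3 := by rw [Subgroup.orderOf_coe, hk]
  obtain ⟨g, hg⟩ := CfsgLib.Invol.exists_conj_mem_sylow P (H := zpowers (k : S))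
    (IsPGroup.of_card (n := 1) (by rw [Nat.card_zpowers, hk', pow_one]))
  haveI : Group.IsNilpotent (P : Subgroup S) := P.2.isNilpotent
  haveI : ((K.comap f).subgroupOf (P : Subgroup S)).Normal := inferInstance
  have hne : (K.comap f).subgroupOf (P : Subgroup S) ≠ ⊥ := by
    intro h
    have h1 : (⟨g * k * g⁻¹, hg k (mem_zpowers _)⟩ : (P : Subgroup S)) ∈ (K.comap f).subgroupOf (P : Subgroup S) :=
      hK'.conj_mem (k : S) k.2 g
    rw [h, mem_bot] at h1
    have h2 := congrArg Subtype.val h1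
    change g * (k : S) * g⁻¹ = 1 at h2
    rw [mul_inv_eq_one, mul_eq_left] at h2
    rw [h2, orderOf_one] at hk'
    norm_num at hk'
  obtain ⟨⟨z, hz, hzc⟩, hz1⟩ := ne_bot_iff_exists_ne_one.1 (CfsgLib.Solvable.normal_inf_center_ne_bot _ hne)
  have hzB : (z : S) ∈ B := by rw [← hBZ]; exact mem_map_of_mem (P : Subgroup S).subtype hzc
  have hz1' : (z : S) ≠ 1 := fun h => hz1 (Subtype.ext (Subtype.ext h))
  have hle : B ≤ K.comap f := by
    have hgen : zpowers (z : S) = B := eq_of_le_of_card_ge (zpowers_le.2 hzB) (by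
      rw [hB, Nat.card_zpowers]
      have hd : orderOf (z : S) ∣ 3 := by
        have h := orderOf_dvd_natCard (⟨(z : S), hzB⟩ : B)
        rwa [Subgroup.orderOf_mk, hB] at h
      rcases (Nat.dvd_prime Nat.prime_three).1 hd with h | h
      · exact absurd (orderOf_eq_one_iff.1 h) hz1'
      · rw [h])
    rw [← hgen, zpowers_le]
    exact hz
  exact hle (hb ▸ mem_zpowers b)

/-- Generators of the four-group, cyclically permuted by `b`, inside `[M, B]`. -/
theorem exists_four (B : Subgroup S) (hB : Nat.card B = 3) {b : S} (hb : zpowers b = B)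
    (Q : Subgroup S) (hQ : Cfsg.IsElementaryAbelian 2 Q) (hQ4 : Nat.card Q = 4)
    (hBQ : B ≤ normalizer (Q : Set S)) (hBQ' : ¬ B ≤ centralizer (Q : Set S))
    (P : Sylow 3 S) (hBZ : (center (P : Subgroup S)).map (P : Subgroup S).subtype = B) :
    ∃ t u : S, t * t = 1 ∧ u * u = 1 ∧ t * u = u * t ∧ t ≠ 1 ∧ b * t * b⁻¹ = u ∧ b * u * b⁻¹ = t * u ∧
      t ∈ ⁅Cfsg.pPrimeCore 3 S, B⁆ := by
  classical
  haveI hMn := CfsgLib.Solvable.pPrimeCore_normal 3 S
  have hbB : b ∈ B := hb ▸ mem_zpowers b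
  have hb3 : b ^ 3 = 1 := by
    rw [← orderOf_dvd_iff_pow_eq_one, ← Nat.card_zpowers, hb, hB]
  have hsq : ∀ x ∈ Q, x * x = 1 := fun x hx => by rw [← pow_two]; exact hQ.2 x hx
  have hab : ∀ x ∈ Q, ∀ y ∈ Q, x * y = y * x := fun x hx y hy =>
    congrArg Subtype.val (hQ.1.is_comm.comm ⟨x, hx⟩ ⟨y, hy⟩)
  have hcq : ∀ x ∈ Q, b * x * b⁻¹ ∈ Q := fun x hx => (mem_normalizer_iff.1 (hBQ hbB) x).1 hx
  obtain ⟨t, ht, htne⟩ : ∃ t ∈ Q, b * t * b⁻¹ ≠ t := by
    by_contra h
    push Not at h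
    exact hBQ' (hb ▸ zpowers_le.2 (mem_centralizer_iff.2 fun x hx => (mul_inv_eq_iff_eq_mul.1 (h x hx)).symm))
  set u := b * t * b⁻¹ with hu
  set w := b * u * b⁻¹ with hw
  have huQ : u ∈ Q := hcq t ht
  have hwQ : w ∈ Q := hcq u huQ
  have hbw : b * w * b⁻¹ = t := by
    calc b * w * b⁻¹ = b ^ 3 * t * (b ^ 3)⁻¹ := by rw [hw, hu, pow_three]; group
      _ = t := by rw [hb3, one_mul, inv_one, mul_one]
  have ht1 : t ≠ 1 := fun h => htne (by rw [hu, h]; group)
  have hu1 : u ≠ 1 := fun h => ht1 (by rw [← hbw, hw, h]; group)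
  have hw1 : w ≠ 1 := fun h => ht1 (by rw [← hbw, h]; group)
  have hwu : w ≠ u := fun h => htne (by
    have h1 := hbw
    rw [h, ← hw] at h1
    rw [← h]; exact h1)
  have hwt : w ≠ t := fun h => htne (by
    have h1 := hbw
    rw [h, ← hu] at h1
    exact h1)
  have htu1 : t * u ≠ 1 := fun h => htne (by
    rw [← inv_eq_of_mul_eq_one_right h]
    exact inv_eq_of_mul_eq_one_right (hsq t ht))
  have htut : t * u ≠ t := fun h => hu1 (mul_eq_left.1 h)
  have htuu : t * u ≠ u := fun h => ht1 (mul_eq_right.1 h)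
  have hwtu : w = t * u := by
    by_contra hne
    have hsub : ({1, t, u, w, t * u} : Set S) ⊆ (Q : Set S) := by
      rintro x (rfl | rfl | rfl | rfl | rfl)
      exacts [one_mem Q, ht, huQ, hwQ, mul_mem ht huQ]
    have h5 := Set.ncard_le_ncard hsub (Set.toFinite _)
    rw [Set.ncard_insert_of_notMem (by simp [ht1.symm, hu1.symm, hw1.symm, htu1.symm]) (Set.toFinite _),
      Set.ncard_insert_of_notMem (by simp [Ne.symm htne, hwt.symm, htut.symm]) (Set.toFinite _),
      Set.ncard_insert_of_notMem (by simp [hwu.symm, htuu.symm]) (Set.toFinite _),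
      Set.ncard_pair hne, ← Nat.card_coe_set_eq] at h5
    change 5 ≤ Nat.card Q at h5
    omega
  refine ⟨t, u, hsq t ht, hsq u huQ, hab t ht u huQ, ht1, rfl, hwtu, ?_⟩
  -- inside the core
  have hcom : ⁅t, b⁆ = t * u := by
    rw [commutatorElement_def, inv_eq_of_mul_eq_one_right (hsq t ht), mul_assoc t b t, mul_assoc, ← hu]
  set K := (Cfsg.pCore 3 (S ⧸ Cfsg.pPrimeCore 3 S)).comap (QuotientGroup.mk' (Cfsg.pPrimeCore 3 S)) with hK
  haveI := CfsgLib.Solvable.pCore_normal 3 (S ⧸ Cfsg.pPrimeCore 3 S)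
  have hKn : K.Normal := Subgroup.Normal.comap inferInstance _
  have hbK : b ∈ K := mem_preimage_pCore B hB hb P hBZ
  have htuK : t * u ∈ K := by
    rw [← hcom, commutatorElement_def]
    exact mul_mem (hKn.conj_mem b hbK t) (inv_mem hbK)
  have htuM : t * u ∈ Cfsg.pPrimeCore 3 S := by
    haveI : Fact (Nat.Prime 3) := ⟨Nat.prime_three⟩
    obtain ⟨n, hn⟩ := IsPGroup.iff_orderOf.1 (CfsgLib.Solvable.pCore_isPGroup (G := S ⧸ Cfsg.pPrimeCore 3 S) 3)
      ⟨_, Subgroup.mem_comap.1 htuK⟩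
    rw [Subgroup.orderOf_mk] at hn
    have h2 : orderOf (QuotientGroup.mk' (Cfsg.pPrimeCore 3 S) (t * u)) ∣ 2 :=
      (orderOf_map_dvd _ _).trans (orderOf_dvd_of_pow_eq_one (hQ.2 _ (mul_mem ht huQ)))
    rw [hn] at h2
    refine (QuotientGroup.eq_one_iff _).1 (orderOf_eq_one_iff.1 (hn.trans ?_))
    exact Nat.eq_one_of_dvd_coprimes (Nat.Coprime.pow_left n (by norm_num : Nat.Coprime 3 2)) dvd_rfl h2
  have htM : t ∈ Cfsg.pPrimeCore 3 S := by
    have h := hMn.conj_mem _ htuM b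
    have h' : b * (t * u) * b⁻¹ = t := by
      calc b * (t * u) * b⁻¹ = (b * t * b⁻¹) * (b * u * b⁻¹) := by group
        _ = u * (t * u) := by rw [← hu, ← hw, hwtu]
        _ = t := by rw [← mul_assoc, hab u huQ t ht, mul_assoc, hsq u huQ, mul_one]
    rwa [h'] at h
  have hR : t * u ∈ ⁅Cfsg.pPrimeCore 3 S, B⁆ := hcom ▸ commutator_mem_commutator htM hbB
  have hn := normalizer_commutator_ge_right (Cfsg.pPrimeCore 3 S) B hbB
  have h := (mem_normalizer_iff.1 hn (t * u)).1 hR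
  have h' : b * (t * u) * b⁻¹ = t := by
    calc b * (t * u) * b⁻¹ = (b * t * b⁻¹) * (b * u * b⁻¹) := by group
      _ = u * (t * u) := by rw [← hu, ← hw, hwtu]
      _ = t := by rw [← mul_assoc, hab u huQ t ht, mul_assoc, hsq u huQ, mul_one]
  rwa [h'] at h

end CfsgLib.CubicThree
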