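import Cfsg.Agent.Lib.CubicThree.Shape
import Cfsg.Agent.Lib.CubicThree.Decomp
import Cfsg.Agent.Lib.CubicThree.Locate
import Cfsg.Agent.Lib.CubicThree.Irred
import Cfsg.Agent.Lib.Coprime.Action
import Cfsg.Agent.Lib.PLocal.LargeExtra

/-!
# The commutator of the three-prime core with a cubic element of order three
-/

set_option autoImplicit false

namespace CfsgLib.CubicThree

open Subgroup Module
open scoped commutatorElement

variable {G E : Type*} [Group G] [AddCommGroup E] [Module (ZMod 3) E] [Finite E]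

/-- An element of order three with a single Jordan block has `ρ b - 1` of rank at most two. -/
theorem rank_le_two (ρ : Representation (ZMod 3) G E) {b : G} (hb : b ^ 3 = 1)
    {E₀ E₁ : Submodule (ZMod 3) E} (htop : E₀ ⊔ E₁ = ⊤) (hE1 : ∀ v ∈ E₁, ρ b v = v)
    (hE0inv : ∀ v ∈ E₀, ρ b v ∈ E₀) (hE0 : Nat.card E₀ = 27) :
    finrank (ZMod 3) (LinearMap.range (ρ b - 1)) ≤ 2 := by
  haveI : Fact (Nat.Prime 3) := ⟨Nat.prime_three⟩
  have h3 : finrank (ZMod 3) E₀ = 3 := by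
    have h := Module.natCard_eq_pow_finrank (K := ZMod 3) (V := E₀)
    rw [hE0, Nat.card_zmod] at h
    exact (Nat.pow_right_injective (le_refl 2 |>.trans (by norm_num : 2 ≤ 3))
      (show 3 ^ 3 = 3 ^ finrank (ZMod 3) E₀ by rw [← h])).symm
  have hle : LinearMap.range (ρ b - 1) ≤ E₀ := by
    rintro _ ⟨v, rfl⟩
    obtain ⟨v0, h0, v1, h1, rfl⟩ := Submodule.mem_sup.1 (htop.ge (Submodule.mem_top : v ∈ ⊤))
    rw [LinearMap.sub_apply, Module.End.one_apply, map_add, hE1 v1 h1, add_sub_add_right_eq_sub]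
    exact sub_mem (hE0inv v0 h0) h0
  by_contra hlt
  push Not at hlt
  have heq : LinearMap.range (ρ b - 1) = E₀ := Submodule.eq_of_le_of_finrank_le hle (by omega)
  have hN : ∀ v, ρ b (ρ b (ρ b v - v) - (ρ b v - v)) - (ρ b (ρ b v - v) - (ρ b v - v)) = 0 := fun v => by
    have h := congrArg (fun g : G => ρ g v) hb
    simp only [pow_three, act_mul, act_one] at h
    simp only [map_sub]
    rw [h]
    linear_combination (norm := module) (-1 : ZMod 3) • three_smul_eq_zero (ρ b (ρ b v)) +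
      three_smul_eq_zero (ρ b v)
  have hstep : ∀ v ∈ E₀, ∃ w ∈ E₀, ρ b w - w = v := by
    intro v hv
    obtain ⟨y, rfl⟩ := heq.ge hv
    obtain ⟨v0, h0, v1, h1, rfl⟩ := Submodule.mem_sup.1 (htop.ge (Submodule.mem_top : y ∈ ⊤))
    exact ⟨v0, h0, by rw [LinearMap.sub_apply, Module.End.one_apply, map_add, hE1 v1 h1,
      add_sub_add_right_eq_sub]⟩
  have hbot : E₀ = ⊥ := eq_bot_iff.2 fun v hv => by
    obtain ⟨w1, hw1, rfl⟩ := hstep v hv
    obtain ⟨w2, hw2, rfl⟩ := hstep w1 hw1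
    obtain ⟨w3, -, rfl⟩ := hstep w2 hw2
    exact (Submodule.mem_bot _).2 (hN w3)
  rw [hbot, finrank_bot] at h3
  omega

/-- The main theorem. -/
theorem commutator_three_prime_core {S E : Type*} [Group S] [Finite S]
    [Group.IsSolvable S] [AddCommGroup E] [Module (ZMod 3) E] [Finite E]
    (ρ : Representation (ZMod 3) S E) (hfaith : Function.Injective ρ)
    (B : Subgroup S) (hB : Nat.card B = 3) (b : S) (hb : zpowers b = B)
    (E₀ E₁ : Submodule (ZMod 3) E) (hE01' : E₀ ⊔ E₁ = ⊤)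
    (hE1 : ∀ v ∈ E₁, ρ b v = v) (hE0inv : ∀ v ∈ E₀, ρ b v ∈ E₀) (hE0 : Nat.card E₀ = 27)
    (Q : Subgroup S) (hQ : Cfsg.IsElementaryAbelian 2 Q) (hQ4 : Nat.card Q = 4)
    (hBQ : B ≤ normalizer (Q : Set S)) (hBQ' : ¬ B ≤ centralizer (Q : Set S))
    (P : Sylow 3 S) (hBZ : (center (P : Subgroup S)).map (P : Subgroup S).subtype = B) :
    ((Cfsg.IsElementaryAbelian 2 ⁅Cfsg.pPrimeCore 3 S, B⁆ ∧ Nat.card ↥⁅Cfsg.pPrimeCore 3 S, B⁆ = 4) ∨
      (Cfsg.IsExtraspecial 2 ↥⁅Cfsg.pPrimeCore 3 S, B⁆ ∧ Nat.card ↥⁅Cfsg.pPrimeCore 3 S, B⁆ = 32 ∧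
        ∃ A : Subgroup S, A ≤ ⁅Cfsg.pPrimeCore 3 S, B⁆ ∧ Cfsg.IsElementaryAbelian 2 A ∧ Nat.card ↥A = 8)) ∧
    ∃ F₀ F₁ : Submodule (ZMod 3) E, F₀ ⊓ F₁ = ⊥ ∧ F₀ ⊔ F₁ = ⊤ ∧
      (∀ r ∈ ⁅Cfsg.pPrimeCore 3 S, B⁆, ∀ v ∈ F₁, ρ r v = v) ∧
      (∀ r ∈ ⁅Cfsg.pPrimeCore 3 S, B⁆ ⊔ B, ∀ v ∈ F₀, ρ r v ∈ F₀) ∧
      (∀ r ∈ ⁅Cfsg.pPrimeCore 3 S, B⁆ ⊔ B, (∀ v ∈ F₀, ρ r v = v) → r = 1) ∧
      (∀ N : Submodule (ZMod 3) E, N ≤ F₀ →
        (∀ r ∈ ⁅Cfsg.pPrimeCore 3 S, B⁆ ⊔ B, ∀ v ∈ N, ρ r v ∈ N) → N = ⊥ ∨ N = F₀) := by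
  classical
  subst hb
  obtain ⟨t, u, t2, u2, tu, t1, hct, hcu, htR⟩ := exists_four (zpowers b) hB rfl Q hQ hQ4 hBQ hBQ' P hBZ
  set M := Cfsg.pPrimeCore 3 S with hM
  haveI hMn : M.Normal := CfsgLib.Solvable.pPrimeCore_normal 3 S
  set R := ⁅M, zpowers b⁆ with hRdef
  have hb3 : b ^ 3 = 1 := by rw [← orderOf_dvd_iff_pow_eq_one, ← Nat.card_zpowers, hB]
  have hMcop : (Nat.card M).Coprime 3 := CfsgLib.Solvable.pPrimeCore_coprime 3
  have hBM : zpowers b ≤ normalizer (M : Set S) := by rw [normalizer_eq_top]; exact le_top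
  have hRM : R ≤ M := commutator_le_left M (zpowers b)
  have hcop : (Nat.card R).Coprime 3 := hMcop.coprime_dvd_left (card_dvd_of_le hRM)
  have hcomm : ⁅R, zpowers b⁆ = R :=
    CfsgLib.Coprime.commutator_commutator_eq hBM (by rw [hB]; exact hMcop.symm) (Or.inr inferInstance)
  have hBR : zpowers b ≤ normalizer (R : Set S) := normalizer_commutator_ge_right M (zpowers b)
  have hRBn : R ⊔ zpowers b ≤ normalizer (R : Set S) := sup_le le_normalizer hBR
  have huR : u ∈ R := hct ▸ (mem_normalizer_iff.1 (hBR (mem_zpowers b)) t).1 htR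
  have hrank := rank_le_two ρ hb3 hE01' hE1 hE0inv hE0
  obtain ⟨F₀, F₁, hbot, htop, hfix, hinv, hfree⟩ := exists_fixed_complement ρ R hcop
  have hinvF : ∀ g ∈ R ⊔ zpowers b, ∀ v ∈ F₀, ρ g v ∈ F₀ := fun g hg => hinv g (hRBn hg)
  have hirr : ∀ N : Submodule (ZMod 3) E, N ≤ F₀ →
      (∀ g ∈ R ⊔ zpowers b, ∀ v ∈ N, ρ g v ∈ N) → N = ⊥ ∨ N = F₀ := fun N h1 h2 =>
    irreducible_moved ρ hfaith t2 u2 tu t1 hct hcu hb3 hrank htR huR hcomm htop
      (fun v hv => (hfix v).1 hv) hinvF hfree h1 h2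
  -- the restricted action
  let π : Representation (ZMod 3) ↥(R ⊔ zpowers b) F₀ :=
    { toFun := fun h => (ρ (h : S)).restrict (hinvF h h.2)
      map_one' := LinearMap.ext fun v => Subtype.ext (act_one ρ (v : E))
      map_mul' := fun g h => LinearMap.ext fun v => Subtype.ext (act_mul ρ (g : S) h (v : E)) }
  have hπ : ∀ (h : ↥(R ⊔ zpowers b)) (v : F₀), (π h v : E) = ρ (h : S) v := fun h v => rfl
  have hRfix : ∀ r ∈ R, (∀ v ∈ F₀, ρ r v = v) → r = 1 := fun r hr h => act_eq ρ hfaith fun v => by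
    obtain ⟨v0, h0, v1, h1, rfl⟩ := Submodule.mem_sup.1 (htop.ge (Submodule.mem_top : v ∈ ⊤))
    rw [act_one, map_add, h v0 h0, (hfix v1).1 h1 r hr]
  have hkill : ∀ g ∈ R ⊔ zpowers b, (∀ v ∈ F₀, ρ g v = v) → g = 1 := by
    intro g hg hgf
    obtain ⟨r, hr, c, hc, rfl⟩ : ∃ r ∈ R, ∃ c ∈ zpowers b, r * c = g := by
      have h : (g : S) ∈ ((R ⊔ zpowers b : Subgroup S) : Set S) := hg
      rw [coe_mul_of_right_le_normalizer_left R (zpowers b) hBR] at h
      exact Set.mem_mul.1 h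
    have hrc : π ⟨r, mem_sup_left hr⟩ * π ⟨c, mem_sup_right hc⟩ = 1 := by
      rw [← map_mul]
      exact LinearMap.ext fun v => Subtype.ext (hgf v v.2)
    have hc3 : π ⟨c, mem_sup_right hc⟩ ^ 3 = 1 := by
      rw [← map_pow, show (⟨c, mem_sup_right hc⟩ : ↥(R ⊔ zpowers b)) ^ 3 = 1 from Subtype.ext ?_, map_one]
      obtain ⟨k, rfl⟩ := mem_zpowers_iff.1 hc
      show (b ^ k) ^ 3 = 1
      rw [← zpow_natCast, ← zpow_mul, mul_comm, zpow_mul, zpow_natCast, hb3, one_zpow]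
    have hr1 : π ⟨r, mem_sup_left hr⟩ = 1 := by
      set x := π ⟨r, mem_sup_left hr⟩
      have hx : x * (π ⟨r, mem_sup_left hr⟩⁻¹) = 1 := by rw [← map_mul, mul_inv_cancel, map_one]
      have hcx : π ⟨c, mem_sup_right hc⟩ = π ⟨r, mem_sup_left hr⟩⁻¹ := by
        calc π ⟨c, mem_sup_right hc⟩ = (π ⟨r, mem_sup_left hr⟩⁻¹ * x) * π ⟨c, mem_sup_right hc⟩ := by
              rw [← map_mul, inv_mul_cancel, map_one, one_mul]
          _ = π ⟨r, mem_sup_left hr⟩⁻¹ := by rw [mul_assoc, hrc, mul_one]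
      rw [hcx, ← map_pow, inv_pow] at hc3
      have h3 : x ^ 3 = 1 := by
        calc x ^ 3 = π (⟨r, mem_sup_left hr⟩ ^ 3) * π (⟨r, mem_sup_left hr⟩ ^ 3)⁻¹ := by
              rw [hc3, mul_one, map_pow]
          _ = 1 := by rw [← map_mul, mul_inv_cancel, map_one]
      have hn : x ^ Nat.card R = 1 := by
        have hp : r ^ Nat.card R = 1 := congrArg Subtype.val (pow_card_eq_one' (x := (⟨r, hr⟩ : R)))
        rw [← map_pow, show (⟨r, mem_sup_left hr⟩ : ↥(R ⊔ zpowers b)) ^ Nat.card R = 1 from Subtype.ext hp,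
          map_one]
      exact orderOf_eq_one_iff.1 (Nat.eq_one_of_dvd_coprimes hcop (orderOf_dvd_of_pow_eq_one hn)
        (orderOf_dvd_of_pow_eq_one h3))
    have hr1' : r = 1 := hRfix r hr fun v hv =>
      congrArg Subtype.val (LinearMap.congr_fun hr1 ⟨v, hv⟩)
    subst hr1'
    rw [one_mul] at hgf ⊢
    by_contra hc1
    have hgen : zpowers c = zpowers b := eq_of_le_of_card_ge (zpowers_le.2 hc) (by
      have h := orderOf_dvd_natCard (⟨c, hc⟩ : zpowers b)
      rw [Subgroup.orderOf_mk, hB] at h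
      rw [hB, Nat.card_zpowers]
      rcases (Nat.dvd_prime Nat.prime_three).1 h with h | h
      · exact absurd (orderOf_eq_one_iff.1 h) hc1
      · rw [h])
    refine t1 (hRfix t htR fun v hv => ?_)
    refine sub_eq_zero.1 ((Submodule.mem_bot _).1 (commutator_fixes ρ (b := c) (hgen.symm ▸ hcomm) (X := F₀)
      (N := ⊥) bot_le (hgen.symm ▸ hinvF)
      (fun g _ w hw => by rw [(Submodule.mem_bot _).1 hw, map_zero]; exact zero_mem _)
      (fun w hw => by rw [hgf w hw, sub_self]; exact zero_mem _) t htR v hv))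
  refine ⟨?_, F₀, F₁, hbot, htop, fun r hr v hv => (hfix v).1 hv r hr, hinvF, hkill, hirr⟩
  -- the shape
  set RH := R.subgroupOf (R ⊔ zpowers b) with hRH
  set bH : ↥(R ⊔ zpowers b) := ⟨b, mem_sup_right (mem_zpowers b)⟩ with hbH
  have hmapR : RH.map (R ⊔ zpowers b).subtype = R := map_subgroupOf_eq_of_le le_sup_left
  have hmapB : (zpowers bH).map (R ⊔ zpowers b).subtype = zpowers b := MonoidHom.map_zpowers _ _
  have C : Ctx π RH bH ⟨t, mem_sup_left htR⟩ ⟨u, mem_sup_left huR⟩ :=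
    { inj := fun g h e => Subtype.ext (by
        have h1 : (g : S) * (h : S)⁻¹ = 1 := hkill _ (mul_mem g.2 (inv_mem h.2)) fun v hv => by
          have e' : π (g * h⁻¹) = 1 := by rw [map_mul, e, ← map_mul, mul_inv_cancel, map_one]
          exact congrArg Subtype.val (LinearMap.congr_fun e' ⟨v, hv⟩)
        exact mul_inv_eq_one.1 h1)
      t2 := Subtype.ext t2
      u2 := Subtype.ext u2
      tu := Subtype.ext tu
      t1 := fun h => t1 (congrArg Subtype.val h)
      conj_t := Subtype.ext hct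
      conj_u := Subtype.ext hcu
      b3 := Subtype.ext hb3
      rank := by
        refine le_trans ?_ hrank
        rw [← Submodule.finrank_map_subtype_eq]
        refine Submodule.finrank_mono ?_
        rintro _ ⟨_, ⟨v, rfl⟩, rfl⟩
        exact ⟨(v : E), rfl⟩
      nt := by
        rw [Submodule.nontrivial_iff_ne_bot]
        intro h
        exact t1 (hRfix t htR fun v hv => by
          rw [h, Submodule.mem_bot] at hv; rw [hv, map_zero])
      irred := fun X hX => by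
        rcases hirr (X.map F₀.subtype) (Submodule.map_subtype_le _ _) (fun g hg v hv => by
          obtain ⟨x, hx, rfl⟩ := hv
          exact ⟨π ⟨g, hg⟩ x, hX ⟨g, hg⟩ x hx, rfl⟩) with h | h
        · exact Or.inl (Submodule.map_injective_of_injective F₀.injective_subtype (by rw [h, Submodule.map_bot]))
        · exact Or.inr (Submodule.map_injective_of_injective F₀.injective_subtype (by rw [h, Submodule.map_subtype_top]))
      normal := normal_subgroupOf_of_le_normalizer hRBn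
      cop := by rw [← card_map_of_injective (R ⊔ zpowers b).subtype_injective, hmapR]; exact hcop
      gen := map_injective (R ⊔ zpowers b).subtype_injective (by
        rw [Subgroup.map_sup, hmapR, hmapB, ← MonoidHom.range_eq_map, range_subtype])
      comm := map_injective (R ⊔ zpowers b).subtype_injective (by
        rw [map_commutator, hmapR, hmapB, hcomm])
      tR := htR
      solv := inferInstance }
  have hcardR : Nat.card RH = Nat.card R := by
    rw [← card_map_of_injective (R ⊔ zpowers b).subtype_injective, hmapR]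
  have helem : ∀ A : Subgroup S, (∀ x ∈ A, x * x = 1) → Cfsg.IsElementaryAbelian 2 A := fun A h =>
    ⟨⟨⟨fun x y => Subtype.ext (by
      have hxy := h _ (mul_mem x.2 y.2)
      rw [mul_eq_one_iff_eq_inv, mul_inv_rev, inv_eq_of_mul_eq_one_right (h _ x.2),
        inv_eq_of_mul_eq_one_right (h _ y.2)] at hxy
      exact hxy)⟩⟩, fun x hx => by rw [pow_two]; exact h x hx⟩
  rcases C.shape with ⟨h2, h4⟩ | ⟨hext, h32, A, hAR, hA2, hA8⟩
  · exact Or.inl ⟨helem R fun x hx => congrArg Subtype.val (h2 ⟨x, mem_sup_left hx⟩ hx), by rw [← hcardR, h4]⟩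
  · refine Or.inr ⟨CfsgLib.PLocal.LargeExtra.isExtraspecial_equiv (subgroupOfEquivOfLe le_sup_left) hext,
      by rw [← hcardR, h32], A.map (R ⊔ zpowers b).subtype, (map_mono hAR).trans hmapR.le,
      helem _ ?_, by rw [card_map_of_injective (R ⊔ zpowers b).subtype_injective, hA8]⟩
    rintro _ ⟨x, hx, rfl⟩
    exact congrArg Subtype.val (hA2 x hx)

end CfsgLib.CubicThree
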