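import Cfsg.Agent.Lib.CubicThree.Basic

/-!
# An `A₄` on a module in characteristic three with a cubic element of rank two

The four-group moves a single three-dimensional subspace, split into three lines permuted by the element of order three,
which is the identity on the fixed points of the four-group.
-/

set_option autoImplicit false

namespace CfsgLib.CubicThree

open Module

variable {H V : Type*} [Group H] [AddCommGroup V] [Module (ZMod 3) V]

/-- A four group `⟨t, u⟩` cyclically permuted by `b`, where `b - 1` has rank at most two. -/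
structure Frame (π : Representation (ZMod 3) H V) (b t u : H) : Prop where
  inj : Function.Injective π
  t2 : t * t = 1
  u2 : u * u = 1
  tu : t * u = u * t
  t1 : t ≠ 1
  conj_t : b * t * b⁻¹ = u
  conj_u : b * u * b⁻¹ = t * u
  b3 : b ^ 3 = 1
  rank : finrank (ZMod 3) (LinearMap.range (π b - 1)) ≤ 2

variable {π : Representation (ZMod 3) H V} {b t u : H}

theorem act_mul (π : Representation (ZMod 3) H V) (g h : H) (v : V) : π (g * h) v = π g (π h v) := by
  rw [map_mul]; rfl

theorem act_one (π : Representation (ZMod 3) H V) (v : V) : π 1 v = v := by rw [map_one]; rfl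

theorem act_eq (π : Representation (ZMod 3) H V) (hinj : Function.Injective π) {g h : H}
    (e : ∀ v, π g v = π h v) : g = h := hinj (LinearMap.ext e)

theorem three_smul_eq_zero (v : V) : v + v + v = 0 := by
  have h : ((3 : ℕ) : ZMod 3) • v = 0 := by rw [ZMod.natCast_self, zero_smul]
  rw [Nat.cast_smul_eq_nsmul, succ_nsmul, succ_nsmul, one_nsmul] at h
  exact h

theorem eq_zero_of_neg {v : V} (h : v = -v) : v = 0 := by
  have h2 : v + v = 0 := by nth_rewrite 1 [h]; exact neg_add_cancel v
  have := three_smul_eq_zero v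
  rwa [h2, zero_add] at this

namespace Frame

/-- The weight projections. -/
def proj (π : Representation (ZMod 3) H V) (t u : H) (s s' : ZMod 3) : V →ₗ[ZMod 3] V :=
  1 + s • π t + s' • π u + (s * s') • π (t * u)

variable [Finite V] (F : Frame π b t u)
include F

theorem tt (v : V) : π t (π t v) = v := by rw [← act_mul, F.t2, act_one]

theorem uu (v : V) : π u (π u v) = v := by rw [← act_mul, F.u2, act_one]

theorem tu' (v : V) : π t (π u v) = π u (π t v) := by rw [← act_mul, F.tu, act_mul]

theorem t_b (v : V) : π t (π b v) = π b (π t (π u v)) := by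
  rw [← act_mul, ← act_mul, ← act_mul]
  congr 2
  have h1 := F.conj_t
  have h2 := F.conj_u
  calc t * b = t * u * u * b := by rw [mul_assoc t u u, F.u2, mul_one]
    _ = (b * u * b⁻¹) * (b * t * b⁻¹) * b := by rw [h1, h2]
    _ = b * (u * t) := by group
    _ = b * (t * u) := by rw [F.tu]
    _ = b * t * u := (mul_assoc b t u).symm

theorem u_b (v : V) : π u (π b v) = π b (π t v) := by
  rw [← act_mul, ← act_mul, ← F.conj_t]
  congr 2
  group

theorem proj_apply (s s' : ZMod 3) (v : V) :
    proj π t u s s' v = v + s • π t v + s' • π u v + (s * s') • π t (π u v) := by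
  simp [proj, act_mul]

/-- Weight vectors of the three nontrivial weights. -/
theorem exists_weight : ∃ v : V, v ≠ 0 ∧ π t v = v ∧ π u v = -v := by
  by_contra hc
  push Not at hc
  have key : ∀ v : V, π t v = v → π u v = -v → v = 0 := fun v h1 h2 =>
    by_contra fun h => hc v h h1 h2
  refine F.t1 (act_eq π F.inj fun v => ?_)
  rw [act_one]
  have hm : ∀ v, π t v = -v → π u v = v → v = 0 := by
    intro v h1 h2
    have h3 := key (π b (π b v)) (by
      simp [F.t_b, F.u_b, F.tt, F.uu, F.tu', h1, h2]) (by
      simp [F.t_b, F.u_b, F.tt, F.uu, F.tu', h1, h2])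
    have h4 := congrArg (π b) h3
    rwa [map_zero, ← act_mul, ← act_mul, ← pow_three', F.b3, act_one] at h4
  have hmm : ∀ v, π t v = -v → π u v = -v → v = 0 := by
    intro v h1 h2
    have h3 := key (π b v) (by rw [F.t_b, h2, map_neg, h1, neg_neg]) (by rw [F.u_b, h1, map_neg])
    have h4 := congrArg (π (b * b)) h3
    rwa [map_zero, ← act_mul, ← pow_three', F.b3, act_one] at h4
  -- a vector negated by `t`
  have hzero : ∀ w, π t w = -w → w = 0 := by
    intro w hw
    have h1 : w + π u w = 0 := hm _ (by rw [map_add, F.tu', hw, map_neg]; abel)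
      (by rw [map_add, F.uu]; abel)
    have h2 : π u w = -w := eq_neg_of_add_eq_zero_right h1
    exact hmm w hw h2
  have := hzero (π t v - v) (by rw [map_sub, F.tt]; abel)
  exact sub_eq_zero.1 this

theorem weights_one {v : V} (h1 : π t v = v) (h2 : π u v = -v) :
    π t (π b v) = -π b v ∧ π u (π b v) = π b v ∧
      π t (π b (π b v)) = -π b (π b v) ∧ π u (π b (π b v)) = -π b (π b v) := by
  refine ⟨?_, ?_, ?_, ?_⟩
  · rw [F.t_b, h2, map_neg, h1, map_neg]
  · rw [F.u_b, h1]
  · simp [F.t_b, F.u_b, F.tt, F.uu, F.tu', h1, h2]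
  · simp [F.t_b, F.u_b, F.tt, F.uu, F.tu', h1, h2]

/-- The three lines. -/
theorem exists_lines : ∃ v : Fin 3 → V, LinearIndependent (ZMod 3) v ∧
    π b (v 0) = v 1 ∧ π b (v 1) = v 2 ∧ π b (v 2) = v 0 ∧
    π t (v 0) = v 0 ∧ π u (v 0) = -v 0 ∧ π t (v 1) = -v 1 ∧ π u (v 1) = v 1 ∧
    π t (v 2) = -v 2 ∧ π u (v 2) = -v 2 ∧
    (∀ w, π b w - w ∈ Submodule.span (ZMod 3) ({v 1 - v 0, v 2 - v 1} : Set V)) ∧
    (∀ w, π t w = w → π u w = -w → ∃ c : ZMod 3, w = c • v 0) ∧
    (∀ w, π t w = w → π u w = w → π b w = w) := by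
  obtain ⟨v, hv, h1, h2⟩ := F.exists_weight
  obtain ⟨h3, h4, h5, h6⟩ := F.weights_one h1 h2
  set f : Fin 3 → V := ![v, π b v, π b (π b v)] with hf
  have hb3 : π b (π b (π b v)) = v := by
    rw [← act_mul, ← act_mul, ← pow_three', F.b3, act_one]
  have hinjb : ∀ w, π b w = 0 → w = 0 := by
    intro w hw
    have := congrArg (π (b * b)) hw
    rwa [← act_mul, ← pow_three', F.b3, act_one, map_zero] at this
  have hne : ∀ i, f i ≠ 0 := by
    intro i
    fin_cases i
    · exact hv
    · exact fun h => hv (hinjb v h)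
    · exact fun h => hv (hinjb v (hinjb _ h))
  have hind : LinearIndependent (ZMod 3) f := by
    refine linearIndependent_of_separated (fun g : Bool => if g then π t else π u)
      (fun i g => if g then (![1, -1, -1] : Fin 3 → ZMod 3) i else (![-1, 1, -1] : Fin 3 → ZMod 3) i)
      f hne (fun g i => ?_) (fun i j hij => ?_)
    · cases g <;> fin_cases i <;> simp [hf, h1, h2, h3, h4, h5, h6]
    · fin_cases i <;> fin_cases j <;> first
        | exact absurd rfl hij
        | exact ⟨true, by decide⟩
        | exact ⟨false, by decide⟩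
  set L : Submodule (ZMod 3) V := Submodule.span (ZMod 3) ({f 1 - f 0, f 2 - f 1} : Set V) with hL
  have hrange : LinearMap.range (π b - 1) = L := by
    symm
    refine Submodule.eq_of_le_of_finrank_le ?_ ?_
    · rw [hL, Submodule.span_le]
      rintro w (rfl | rfl)
      · exact ⟨f 0, rfl⟩
      · exact ⟨f 1, rfl⟩
    · refine F.rank.trans ?_
      have hli : LinearIndependent (ZMod 3) ![f 1 - f 0, f 2 - f 1] := by
        rw [LinearIndependent.pair_iff]
        intro s r hsr
        have := Fintype.linearIndependent_iff.1 hind ![-s, s - r, r] (by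
          rw [Fin.sum_univ_three]
          simp only [Matrix.cons_val_zero, Matrix.cons_val_one, Matrix.cons_val, neg_smul, sub_smul]
          linear_combination (norm := module) hsr)
        have h0 := this 0
        have h2' := this 2
        simp at h0 h2'
        exact ⟨h0, h2'⟩
      have h' := finrank_span_eq_card hli
      rw [Matrix.range_cons, Matrix.range_cons, Matrix.range_empty, Set.union_empty,
        ← Set.insert_eq, Fintype.card_fin] at h'
      rw [h']
  have hrange' : ∀ w, π b w - w ∈ L := fun w => hrange.le ⟨w, rfl⟩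
  refine ⟨f, hind, rfl, rfl, hb3, h1, h2, h3, h4, h5, h6, hrange', ?_, ?_⟩
  · intro w hw1 hw2
    obtain ⟨k1, k2, k3, k4⟩ := F.weights_one hw1 hw2
    obtain ⟨α, β, hab⟩ := Submodule.mem_span_pair.1 (hrange' w)
    have h := congrArg (proj π t u 1 (-1)) hab
    simp only [F.proj_apply, map_add, map_sub, map_smul, map_neg, hf, Matrix.cons_val_zero,
      Matrix.cons_val_one, Matrix.cons_val, h1, h2, h3, h4, h5, h6, hw1, hw2, k1, k2, one_smul,
      neg_smul, mul_neg, mul_one, smul_neg, neg_neg] at h
    refine ⟨α, ?_⟩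
    have h9 := three_smul_eq_zero w
    have h10 := three_smul_eq_zero (α • v)
    show w = α • f 0
    simp only [hf, Matrix.cons_val_zero]
    linear_combination (norm := module) h - h9 + h10
  · intro w hw1 hw2
    have k1 : π t (π b w) = π b w := by rw [F.t_b, hw2, hw1]
    have k2 : π u (π b w) = π b w := by rw [F.u_b, hw1]
    obtain ⟨α, β, hab⟩ := Submodule.mem_span_pair.1 (hrange' w)
    have h := congrArg (proj π t u 1 1) hab
    simp only [F.proj_apply, map_add, map_sub, map_smul, map_neg, hf, Matrix.cons_val_zero,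
      Matrix.cons_val_one, Matrix.cons_val, h1, h2, h3, h4, h5, h6, hw1, hw2, k1, k2, one_smul,
      mul_one, smul_neg, neg_neg] at h
    have h9 := three_smul_eq_zero (π b w - w)
    linear_combination (norm := module) -h - h9

/-- Every vector splits along the three lines and the fixed points. -/
theorem exists_split (v : V) : ∃ x y z w : V, v = x + y + z + w ∧
    (π t x = x ∧ π u x = -x) ∧ (π t y = -y ∧ π u y = y) ∧ (π t z = -z ∧ π u z = -z) ∧
      π t w = w ∧ π u w = w := by
  refine ⟨proj π t u 1 (-1) v, proj π t u (-1) 1 v, proj π t u (-1) (-1) v, proj π t u 1 1 v, ?_, ?_⟩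
  · simp only [F.proj_apply, one_smul, neg_smul, mul_one, mul_neg, neg_mul, neg_neg]
    have := three_smul_eq_zero v
    linear_combination (norm := module) (-1 : ZMod 3) • this
  · refine ⟨⟨?_, ?_⟩, ⟨?_, ?_⟩, ⟨?_, ?_⟩, ?_, ?_⟩ <;>
      simp only [F.proj_apply, map_add, map_smul, F.tt, F.uu, F.tu', one_smul, neg_smul, mul_one,
        mul_neg, neg_mul, neg_neg, map_neg] <;> abel

end Frame

end CfsgLib.CubicThree
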