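import Cfsg.Agent.Lib.CubicThree.Ctx

/-!
# The monomial case
-/

set_option autoImplicit false

namespace CfsgLib.CubicThree

open Subgroup
open scoped Pointwise

section Weights

variable {H V : Type*} [Group H] [AddCommGroup V] [Module (ZMod 3) V]
  (π : Representation (ZMod 3) H V) (A : Subgroup H)

/-- A weight space of `A`. -/
def wsp (χ : A → ZMod 3) : Submodule (ZMod 3) V where
  carrier := {v | ∀ a : A, π (a : H) v = χ a • v}
  zero_mem' := fun a => by simp
  add_mem' := fun {x y} hx hy a => by rw [map_add, hx a, hy a, smul_add]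
  smul_mem' := fun c x hx a => by rw [map_smul, hx a, smul_comm]

/-- The weights of `A`. -/
def wset : Set (A → ZMod 3) := {χ | ∃ v, v ≠ 0 ∧ v ∈ wsp π A χ}

theorem weights_sum_zero {ι : Type*} (s : Finset ι) (χ : ι → A → ZMod 3) (x : ι → V)
    (hχ : ∀ i ∈ s, ∀ j ∈ s, χ i = χ j → i = j) (hx : ∀ i ∈ s, x i ∈ wsp π A (χ i))
    (hs : ∑ i ∈ s, x i = 0) : ∀ i ∈ s, x i = 0 := by
  classical
  by_contra hne
  push Not at hne
  obtain ⟨i, hi, hxi⟩ := hne
  set T := s.filter fun j => x j ≠ 0
  have hli : LinearIndependent (ZMod 3) (fun j : T => x j.1) :=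
    linearIndependent_of_separated (fun a : A => π (a : H)) (fun (j : T) (a : A) => χ j.1 a) _
      (fun j => (Finset.mem_filter.1 j.2).2)
      (fun a j => hx j.1 (Finset.mem_filter.1 j.2).1 a)
      (fun j l hjl => Function.ne_iff.1 fun e => hjl (Subtype.ext
        (hχ j.1 (Finset.mem_filter.1 j.2).1 l.1 (Finset.mem_filter.1 l.2).1 e)))
  have h1 : ∑ j : T, (1 : ZMod 3) • x j = 0 := by
    simp only [one_smul]
    rw [Finset.sum_coe_sort T x, Finset.sum_filter_ne_zero, hs]
  exact one_ne_zero (Fintype.linearIndependent_iff.1 hli (fun _ => (1 : ZMod 3)) h1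
    ⟨i, Finset.mem_filter.2 ⟨hi, hxi⟩⟩)

variable [hA : A.Normal]

/-- Conjugation of weights. -/
def wconj (h : H) (χ : A → ZMod 3) : A → ZMod 3 := fun a =>
  χ ⟨h⁻¹ * a * h, by simpa using hA.conj_mem _ a.2 h⁻¹⟩

theorem wconj_one (χ : A → ZMod 3) : wconj A (1 : H) χ = χ := by
  funext a
  unfold wconj
  congr 1
  exact Subtype.ext (by simp)

theorem wconj_mul (g h : H) (χ : A → ZMod 3) : wconj A (g * h) χ = wconj A g (wconj A h χ) := by
  funext a
  show χ _ = χ _
  congr 1
  exact Subtype.ext (by simp [mul_assoc])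

theorem map_mem_wsp (h : H) {χ : A → ZMod 3} {v : V} (hv : v ∈ wsp π A χ) :
    π h v ∈ wsp π A (wconj A h χ) := by
  intro a
  have h1 : π (h⁻¹ * a * h) v = wconj A h χ a • v :=
    hv ⟨h⁻¹ * a * h, by simpa using hA.conj_mem _ a.2 h⁻¹⟩
  have e : ∀ w, π (a : H) (π h w) = π h (π (h⁻¹ * a * h) w) := fun w => by
    rw [← act_mul, ← act_mul]
    congr 2
    group
  rw [e, h1, map_smul]

theorem wconj_mem_wset (h : H) {χ : A → ZMod 3} (hχ : χ ∈ wset π A) : wconj A h χ ∈ wset π A := by
  obtain ⟨v, hv, hm⟩ := hχ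
  refine ⟨π h v, fun e => hv ?_, map_mem_wsp π A h hm⟩
  have := congrArg (π h⁻¹) e
  rwa [← act_mul, inv_mul_cancel, act_one, map_zero] at this

/-- The permutations of the weights. -/
noncomputable def wperm : H →* Equiv.Perm (wset π A) where
  toFun h :=
    { toFun := fun χ => ⟨wconj A h χ.1, wconj_mem_wset π A h χ.2⟩
      invFun := fun χ => ⟨wconj A h⁻¹ χ.1, wconj_mem_wset π A h⁻¹ χ.2⟩
      left_inv := fun χ => Subtype.ext (by
        show wconj A h⁻¹ (wconj A h χ.1) = χ.1
        rw [← wconj_mul, inv_mul_cancel, wconj_one])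
      right_inv := fun χ => Subtype.ext (by
        show wconj A h (wconj A h⁻¹ χ.1) = χ.1
        rw [← wconj_mul, mul_inv_cancel, wconj_one]) }
  map_one' := Equiv.ext fun χ => Subtype.ext (wconj_one A χ.1)
  map_mul' g h := Equiv.ext fun χ => Subtype.ext (wconj_mul A g h χ.1)

theorem wperm_val (h : H) (χ : wset π A) : (wperm π A h χ).1 = wconj A h χ.1 := rfl

omit hA in
theorem exists_common (h2 : ∀ a : A, (a : H) * a = 1) (hab : ∀ x y : A, (x : H) * y = y * x)
    (s : Finset A) : ∀ v : V, v ≠ 0 → ∃ w, w ≠ 0 ∧ ∀ a ∈ s, π (a : H) w = w ∨ π (a : H) w = -w := by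
  classical
  induction s using Finset.induction with
  | empty => exact fun v hv => ⟨v, hv, fun a ha => absurd ha (Finset.notMem_empty a)⟩
  | insert c s hc ih =>
    intro v hv
    obtain ⟨w, hw, hws⟩ := ih v hv
    have hcc : π (c : H) (π (c : H) w) = w := by rw [← act_mul, h2, act_one]
    by_cases h : π (c : H) w + w = 0
    · exact ⟨w, hw, fun a ha => by
        rcases Finset.mem_insert.1 ha with rfl | ha
        · exact Or.inr (eq_neg_of_add_eq_zero_left h)
        · exact hws a ha⟩
    · refine ⟨_, h, fun a ha => ?_⟩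
      rcases Finset.mem_insert.1 ha with rfl | ha
      · exact Or.inl (by rw [map_add, hcc, add_comm])
      · have e : π (a : H) (π (c : H) w) = π (c : H) (π (a : H) w) := by
          rw [← act_mul, hab, act_mul]
        rcases hws a ha with h' | h'
        · exact Or.inl (by rw [map_add, e, h'])
        · exact Or.inr (by rw [map_add, e, h', map_neg, neg_add])

end Weights

open Equiv.Perm in
/-- Solvable transitive groups of permutations generated like conjugates of a three-cycle. -/
theorem card_le_four {H α : Type*} [Group H] [Finite α] [DecidableEq α] [Fintype α]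
    (hsolv : Group.IsSolvable H) (ψ : H →* Equiv.Perm α) {b : H}
    (h3 : Equiv.Perm.IsThreeCycle (ψ b)) (htr : ∀ x y : α, ∃ h, ψ h x = y)
    (hgen : Subgroup.normalClosure {b} = ⊤) : Fintype.card α ≤ 4 := by
  set G := ψ.range
  have hG : MulAction.IsPreprimitive G α := by
    haveI : MulAction.IsPretransitive G α := ⟨fun x y => by
      obtain ⟨h, hh⟩ := htr x y
      exact ⟨⟨ψ h, h, rfl⟩, hh⟩⟩
    refine ⟨fun {B} hB => ?_⟩
    by_cases hsub : B.Subsingleton
    · exact Or.inl hsub
    refine Or.inr (Set.eq_univ_of_forall fun y => ?_)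
    obtain ⟨x, hx⟩ : B.Nonempty := by
      rw [Set.nonempty_iff_ne_empty]
      rintro rfl
      exact hsub Set.subsingleton_empty
    -- all conjugates of `b` stabilise the block
    let S : Subgroup H :=
      (MulAction.stabilizer G B).comap ψ.rangeRestrict
    have hS : S = ⊤ := by
      refine top_le_iff.1 (hgen.symm.le.trans ?_)
      rw [Subgroup.normalClosure, Subgroup.closure_le]
      intro c hc
      obtain ⟨c₀, hc₀, hcc⟩ := Group.mem_conjugatesOfSet_iff.1 hc
      rw [Set.mem_singleton_iff] at hc₀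
      subst c₀
      obtain ⟨g, rfl⟩ := isConj_iff.1 hcc
      rw [SetLike.mem_coe, Subgroup.mem_comap, MulAction.mem_stabilizer_iff]
      by_contra hne
      have hdis : Disjoint (ψ.rangeRestrict (g * b * g⁻¹) • B) B :=
        (MulAction.isBlock_iff_smul_eq_or_disjoint.1 hB (ψ.rangeRestrict (g * b * g⁻¹))).resolve_left hne
      have h3' : Equiv.Perm.IsThreeCycle (ψ (g * b * g⁻¹)) := by
        rw [map_mul, map_mul, map_inv]
        unfold Equiv.Perm.IsThreeCycle at h3 ⊢
        rw [Equiv.Perm.cycleType_conj]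
        exact h3
      have hmove : ∀ w ∈ B, ψ (g * b * g⁻¹) w ∉ B := fun w hw hw' =>
        Set.disjoint_left.1 hdis ⟨w, hw, rfl⟩ hw'
      obtain ⟨p, hp, q, hq, hpq⟩ := Set.not_subsingleton_iff.1 hsub
      set σ := ψ (g * b * g⁻¹)
      have hc : σ.IsCycle := h3'.isCycle
      obtain ⟨i, hi⟩ := hc.exists_zpow_eq (x := p) (y := q)
        (fun e => hmove p hp (e.symm ▸ hp)) (fun e => hmove q hq (e.symm ▸ hq))
      have ho : σ ^ (3 : ℤ) = 1 := by
        rw [show (3 : ℤ) = ((3 : ℕ) : ℤ) from rfl, zpow_natCast, ← h3'.orderOf, pow_orderOf_eq_one]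
      rw [← Int.emod_add_mul_ediv i 3, zpow_add, zpow_mul, ho, one_zpow, mul_one] at hi
      rcases (show i % 3 = 0 ∨ i % 3 = 1 ∨ i % 3 = 2 by omega) with e | e | e <;> rw [e] at hi
      · exact hpq (by simpa using hi)
      · rw [zpow_one] at hi
        exact hmove p hp (hi ▸ hq)
      · refine hmove q hq ?_
        rw [← hi, ← mul_apply, ← zpow_one_add, show (1 : ℤ) + 2 = 3 from rfl, ho, one_apply]
        exact hp
    obtain ⟨h, hh⟩ := htr x y
    have hst : ψ.rangeRestrict h • B = B :=
      MulAction.mem_stabilizer_iff.1 (show ψ.rangeRestrict h ∈ MulAction.stabilizer G B from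
        (hS.ge (Subgroup.mem_top h) :))
    rw [← hst, ← hh]
    exact ⟨x, hx, rfl⟩
  have hle : alternatingGroup α ≤ G :=
    alternatingGroup_le_of_isPreprimitive_of_isThreeCycle_mem hG h3 ⟨b, rfl⟩
  by_contra hn
  haveI : Group.IsSolvable G := solvable_of_surjective ψ.rangeRestrict_surjective
  haveI : Group.IsSolvable (alternatingGroup α) :=
    solvable_of_solvable_injective (Subgroup.inclusion_injective hle)
  refine Equiv.Perm.not_isSolvable α ?_ ?_
  · rw [Cardinal.mk_fintype]
    exact_mod_cast (show 5 ≤ Fintype.card α by omega)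
  · exact solvable_of_ker_le_range (alternatingGroup α).subtype (Equiv.Perm.sign (α := α))
      (by rw [Subgroup.range_subtype]; exact le_rfl)

namespace Ctx

variable {H V : Type*} [Group H] [Finite H] [AddCommGroup V] [Module (ZMod 3) V] [Finite V]
  {π : Representation (ZMod 3) H V} {R : Subgroup H} {b t u : H} (C : Ctx π R b t u)
include C

set_option maxHeartbeats 2000000 in
/-- The consequences of a nonscalar normal elementary abelian subgroup. -/
theorem monomial {A : Subgroup H} (hA : A.Normal) (h2 : ∀ a ∈ A, a * a = 1) {a₀ : H}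
    (ha₀ : a₀ ∈ A) (hns : ¬ Scal π a₀) :
    (∀ r ∈ R, r = 1 ∨ r = t ∨ r = u ∨ r = t * u) ∨
      (IsPGroup 2 R ∧ (∀ r ∈ R, Scal π (r * r)) ∧ ∃ r ∈ R, ∃ a ∈ A, r * a ≠ a * r) := by
  classical
  haveI := hA
  haveI := C.nt
  haveI := C.normal
  have hab : ∀ x y : A, (x : H) * y = y * x := fun x y => by
    have h := h2 _ (mul_mem x.2 y.2)
    rw [mul_eq_one_iff_eq_inv, mul_inv_rev, inv_eq_of_mul_eq_one_right (h2 _ x.2),
      inv_eq_of_mul_eq_one_right (h2 _ y.2)] at h
    exact h
  haveI : Finite (A → ZMod 3) := inferInstance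
  haveI : Fintype (wset π A) := Fintype.ofFinite _
  set Ω := wset π A with hΩ
  set W := fun χ : A → ZMod 3 => wsp π A χ with hW
  set ψ := wperm π A with hψ
  have hψW : ∀ h (χ : Ω) v, v ∈ W χ.1 → π h v ∈ W (ψ h χ).1 := fun h χ v hv => map_mem_wsp π A h hv
  have hinjh : ∀ h v, π h v = 0 → v = 0 := fun h v e => by
    have := congrArg (π h⁻¹) e
    rwa [← act_mul, inv_mul_cancel, act_one, map_zero] at this
  -- there is a weight
  obtain ⟨χ₁, hχ₁⟩ : ∃ χ, χ ∈ Ω := by
    haveI := Fintype.ofFinite A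
    obtain ⟨v, hv⟩ := exists_ne (0 : V)
    obtain ⟨w, hw, hws⟩ := exists_common π A (fun a => h2 a a.2) hab Finset.univ v hv
    refine ⟨fun a => if π (a : H) w = w then 1 else -1, w, hw, fun a => ?_⟩
    show π (a : H) w = _
    dsimp only
    split_ifs with h
    · rw [one_smul]; exact h
    · rw [neg_one_smul]; exact (hws a (Finset.mem_univ a)).resolve_left h
  -- the weight spaces span
  have hspan : ∀ (s : Set Ω), s.Nonempty → (∀ h, ∀ χ ∈ s, ψ h χ ∈ s) → ⨆ χ ∈ s, W χ.1 = ⊤ := by
    intro s ⟨χ, hχ⟩ hs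
    refine (C.irred _ fun h v hv => ?_).resolve_left fun hb => ?_
    · have hle : ⨆ χ ∈ s, W χ.1 ≤ (⨆ χ ∈ s, W χ.1).comap (π h) := by
        refine iSup₂_le fun χ' hχ' v hv => ?_
        exact Submodule.mem_iSup_of_mem (ψ h χ') (Submodule.mem_iSup_of_mem (hs h χ' hχ') (hψW h χ' v hv))
      exact hle hv
    · obtain ⟨v, hv, hvm⟩ := χ.2
      exact hv ((Submodule.mem_bot _).1 (hb ▸ Submodule.mem_iSup_of_mem χ (Submodule.mem_iSup_of_mem hχ hvm)))
  have hdet : ∀ f g : V →ₗ[ZMod 3] V, (∀ χ : Ω, ∀ v ∈ W χ.1, f v = g v) → f = g := by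
    intro f g hfg
    refine LinearMap.ext fun v => ?_
    have hle : ⨆ χ ∈ (Set.univ : Set Ω), W χ.1 ≤ LinearMap.eqLocus f g :=
      iSup₂_le fun χ _ v hv => hfg χ v hv
    rw [hspan Set.univ ⟨⟨χ₁, hχ₁⟩, trivial⟩ fun _ _ _ => trivial] at hle
    exact hle trivial
  -- orbits
  have htr : ∀ χ χ' : Ω, ∃ h, ψ h χ = χ' := by
    intro χ χ'
    by_contra hcon
    push Not at hcon
    set s : Set Ω := Set.range fun h => ψ h χ
    have hs := hspan s ⟨χ, 1, by simp⟩ (by
      rintro h _ ⟨g, rfl⟩
      exact ⟨h * g, by simp [map_mul]⟩)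
    obtain ⟨v, hv, hvm⟩ := χ'.2
    have hv' : v ∈ ⨆ χ ∈ s, W χ.1 := hs ▸ trivial
    obtain ⟨g, hgW, hgs, hsum⟩ : ∃ g : Ω → V, (∀ x, g x ∈ W x.1) ∧ (∀ x, x ∉ s → g x = 0) ∧
        ∑ x, g x = v := by
      refine Submodule.iSup_induction _
        (motive := fun v => ∃ g : Ω → V, (∀ x, g x ∈ W x.1) ∧ (∀ x, x ∉ s → g x = 0) ∧ ∑ x, g x = v)
        hv' (fun x y hy => ?_)
        ⟨0, fun x => Submodule.zero_mem _, fun x _ => rfl, Finset.sum_eq_zero fun x _ => rfl⟩
        (fun x y ⟨g, h1, h2, h3⟩ ⟨g', h1', h2', h3'⟩ => ⟨g + g', fun z => Submodule.add_mem _ (h1 z) (h1' z),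
          fun z hz => by simp [h2 z hz, h2' z hz], by simp [Finset.sum_add_distrib, h3, h3']⟩)
      by_cases hx : x ∈ s
      · rw [iSup_pos hx] at hy
        refine ⟨Pi.single x y, fun z => ?_, fun z hz => ?_, Finset.sum_pi_single' x y Finset.univ |>.trans (if_pos (Finset.mem_univ x))⟩
        · by_cases hz : z = x
          · subst hz; rw [Pi.single_eq_same]; exact hy
          · rw [Pi.single_eq_of_ne hz]; exact Submodule.zero_mem _
        · exact Pi.single_eq_of_ne (fun e => hz (by rw [e]; exact hx)) _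
      · rw [iSup_neg hx, Submodule.mem_bot] at hy
        exact ⟨0, fun z => Submodule.zero_mem _, fun z _ => rfl, by simp [hy]⟩
    have hχ' : χ' ∉ s := fun ⟨h, e⟩ => hcon h e
    have := weights_sum_zero π A Finset.univ (fun x : Ω => x.1) (Function.update g χ' (-v))
      (fun i _ j _ e => Subtype.ext e) (fun x _ => by
        by_cases hx : x = χ'
        · subst hx; rw [Function.update_self]; exact Submodule.neg_mem _ hvm
        · rw [Function.update_of_ne hx]
          exact hgW x) (by
        rw [Finset.sum_update_of_mem (Finset.mem_univ _), Finset.sdiff_singleton_eq_erase,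
          Finset.sum_erase_eq_sub (Finset.mem_univ _), hsum]
        simp [hgs χ' hχ']) χ' (Finset.mem_univ _)
    rw [Function.update_self, neg_eq_zero] at this
    exact hv this
  -- a weight moved by `b`
  obtain ⟨χ₀, hmove⟩ : ∃ χ : Ω, ψ b χ ≠ χ := by
    by_contra hc
    push Not at hc
    refine hns (C.scal_of_fixed hA (fun a ha => C.inj (hdet _ _ fun χ v hv => ?_)) a₀ ha₀)
    have h1 := hψW b χ v hv
    rw [hc χ] at h1
    rw [act_mul, act_mul, hv ⟨a, ha⟩, map_smul, h1 ⟨a, ha⟩]
  have hb3 : ∀ χ : Ω, ψ b (ψ b (ψ b χ)) = χ := fun χ => by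
    rw [← Equiv.Perm.mul_apply, ← Equiv.Perm.mul_apply, ← map_mul, ← map_mul, ← pow_three', C.b3,
      map_one, Equiv.Perm.one_apply]
  have hrange : ∀ (k : ℕ) (f : Fin k → V), (∀ i, f i ∈ LinearMap.range (π b - 1)) →
      LinearIndependent (ZMod 3) f → k ≤ 2 := by
    intro k f hf hl
    have hle : Submodule.span (ZMod 3) (Set.range f) ≤ LinearMap.range (π b - 1) :=
      Submodule.span_le.2 (by rintro _ ⟨i, rfl⟩; exact hf i)
    have := (Submodule.finrank_mono hle).trans C.rank
    rwa [finrank_span_eq_card hl, Fintype.card_fin] at this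
  have hN : ∀ v, π b v - v ∈ LinearMap.range (π b - 1) := fun v => ⟨v, rfl⟩
  set χb := ψ b χ₀ with hχb
  set χc := ψ b χb with hχc
  have hd1 : χ₀ ≠ χb := fun e => hmove e.symm
  have hd2 : χ₀ ≠ χc := fun e => hmove (by
    have := hb3 χ₀
    rw [← hχb, ← hχc, ← e] at this
    exact this)
  have hd3 : χb ≠ χc := fun e => hd1 ((ψ b).injective e)
  -- the moved weight spaces are lines
  have hline₀ : ∀ w ∈ W χ₀.1, w ≠ 0 → ∀ w' ∈ W χ₀.1, ∃ c : ZMod 3, w' = c • w := by
    intro w hw hw0 w' hw'
    by_contra hc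
    push Not at hc
    have hli : LinearIndependent (ZMod 3) ![w', w] := linearIndependent_fin2.2 ⟨hw0, fun a e => hc a e.symm⟩
    refine absurd (hrange 4 ![π b w - w, π b (π b w) - π b w, π b w' - w', π b (π b w') - π b w']
      (fun i => by fin_cases i <;> simp only [Matrix.cons_val_zero, Matrix.cons_val_one,
        Matrix.cons_val, Fin.zero_eta, Fin.mk_one, Fin.reduceFinMk] <;> exact hN _)
      (Fintype.linearIndependent_iff.2 fun g hg => ?_)) (by norm_num)
    rw [Fin.sum_univ_four] at hg
    simp only [Matrix.cons_val_zero, Matrix.cons_val_one, Matrix.cons_val] at hg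
    have hz := weights_sum_zero π A Finset.univ ![χ₀.1, χb.1, χc.1]
      ![-(g 0 • w + g 2 • w'), π b ((g 0 - g 1) • w + (g 2 - g 3) • w'),
        π b (π b (g 1 • w + g 3 • w'))]
      (fun i _ j _ e => by
        fin_cases i <;> fin_cases j <;> first
          | rfl
          | exact absurd (Subtype.ext e) hd1
          | exact absurd (Subtype.ext e) hd2
          | exact absurd (Subtype.ext e) hd3
          | exact absurd (Subtype.ext e.symm) hd1
          | exact absurd (Subtype.ext e.symm) hd2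
          | exact absurd (Subtype.ext e.symm) hd3)
      (fun i _ => by
        fin_cases i
        · exact Submodule.neg_mem _ (Submodule.add_mem _ (Submodule.smul_mem _ _ hw) (Submodule.smul_mem _ _ hw'))
        · exact hψW b χ₀ _ (Submodule.add_mem _ (Submodule.smul_mem _ _ hw) (Submodule.smul_mem _ _ hw'))
        · exact hψW b χb _ (hψW b χ₀ _ (Submodule.add_mem _ (Submodule.smul_mem _ _ hw) (Submodule.smul_mem _ _ hw'))))
      (by
        rw [Fin.sum_univ_three]
        simp only [Matrix.cons_val_zero, Matrix.cons_val_one, Matrix.cons_val, map_add, map_smul]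
        rw [← hg]
        module)
    have h02 := hz 0 (Finset.mem_univ _)
    have h13 := hinjh b _ (hinjh b _ (hz 2 (Finset.mem_univ _)))
    simp only [Matrix.cons_val_zero, neg_eq_zero] at h02
    have e02 := Fintype.linearIndependent_iff.1 hli ![g 2, g 0] (by
      simp [Fin.sum_univ_two]; rw [add_comm]; exact h02)
    have e13 := Fintype.linearIndependent_iff.1 hli ![g 3, g 1] (by
      simp [Fin.sum_univ_two]; rw [add_comm]; exact h13)
    intro i
    fin_cases i
    · simpa using e02 1
    · simpa using e13 1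
    · simpa using e02 0
    · simpa using e13 0
  -- all weight spaces are lines
  have hline : ∀ χ : Ω, ∀ w ∈ W χ.1, w ≠ 0 → ∀ w' ∈ W χ.1, ∃ c : ZMod 3, w' = c • w := by
    intro χ w hw hw0 w' hw'
    obtain ⟨h, hh⟩ := htr χ χ₀
    obtain ⟨c, hc⟩ := hline₀ (π h w) (hh ▸ hψW h χ w hw) (fun e => hw0 (hinjh h w e)) (π h w')
      (hh ▸ hψW h χ w' hw')
    refine ⟨c, ?_⟩
    have := congrArg (π h⁻¹) hc
    rwa [map_smul, ← act_mul, ← act_mul, inv_mul_cancel, act_one, act_one] at this
  choose e he0 hemem using fun χ : Ω => χ.2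
  -- `b` fixes every other weight
  have hsupp : ∀ χ : Ω, χ ≠ χ₀ → χ ≠ χb → χ ≠ χc → ψ b χ = χ := by
    intro χ h1 h2' h3
    by_contra hχ
    refine absurd (hrange 3 ![π b (e χ₀) - e χ₀, π b (π b (e χ₀)) - π b (e χ₀), π b (e χ) - e χ]
      (fun i => by fin_cases i <;> simp only [Matrix.cons_val_zero, Matrix.cons_val_one,
        Matrix.cons_val, Fin.zero_eta, Fin.mk_one, Fin.reduceFinMk] <;> exact hN _)
      (Fintype.linearIndependent_iff.2 fun g hg => ?_)) (by norm_num)
    rw [Fin.sum_univ_three] at hg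
    simp only [Matrix.cons_val_zero, Matrix.cons_val_one, Matrix.cons_val] at hg
    have h4 : ψ b χ ≠ χ₀ := fun e => h3 ((ψ b).injective (e.trans (hb3 χ₀).symm))
    have h5 : ψ b χ ≠ χb := fun e => h1 ((ψ b).injective e)
    have h6 : ψ b χ ≠ χc := fun e => h2' ((ψ b).injective e)
    have hz := weights_sum_zero π A Finset.univ ![χ₀.1, χb.1, χc.1, χ.1, (ψ b χ).1]
      ![-(g 0 • e χ₀), π b ((g 0 - g 1) • e χ₀), π b (π b (g 1 • e χ₀)), -(g 2 • e χ), π b (g 2 • e χ)]
      (fun i _ j _ e => by
        fin_cases i <;> fin_cases j <;> first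
          | rfl
          | exact absurd (Subtype.ext e) hd1
          | exact absurd (Subtype.ext e) hd2
          | exact absurd (Subtype.ext e) hd3
          | exact absurd (Subtype.ext e.symm) hd1
          | exact absurd (Subtype.ext e.symm) hd2
          | exact absurd (Subtype.ext e.symm) hd3
          | exact absurd (Subtype.ext e) h1
          | exact absurd (Subtype.ext e) h2'
          | exact absurd (Subtype.ext e) h3
          | exact absurd (Subtype.ext e.symm) h1
          | exact absurd (Subtype.ext e.symm) h2'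
          | exact absurd (Subtype.ext e.symm) h3
          | exact absurd (Subtype.ext e) h4
          | exact absurd (Subtype.ext e) h5
          | exact absurd (Subtype.ext e) h6
          | exact absurd (Subtype.ext e.symm) h4
          | exact absurd (Subtype.ext e.symm) h5
          | exact absurd (Subtype.ext e.symm) h6
          | exact absurd (Subtype.ext e) hχ
          | exact absurd (Subtype.ext e.symm) hχ)
      (fun i _ => by
        fin_cases i
        · exact Submodule.neg_mem _ (Submodule.smul_mem _ _ (hemem χ₀))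
        · exact hψW b χ₀ _ (Submodule.smul_mem _ _ (hemem χ₀))
        · exact hψW b χb _ (hψW b χ₀ _ (Submodule.smul_mem _ _ (hemem χ₀)))
        · exact Submodule.neg_mem _ (Submodule.smul_mem _ _ (hemem χ))
        · exact hψW b χ _ (Submodule.smul_mem _ _ (hemem χ)))
      (by
        rw [Fin.sum_univ_five]
        simp only [Matrix.cons_val_zero, Matrix.cons_val_one, Matrix.cons_val, map_add, map_smul]
        rw [← hg]
        module)
    have k0 := hz 0 (Finset.mem_univ _)
    have k1 := hinjh b _ (hinjh b _ (hz 2 (Finset.mem_univ _)))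
    have k2 := hz 3 (Finset.mem_univ _)
    simp only [Matrix.cons_val_zero, Matrix.cons_val, neg_eq_zero] at k0 k2
    intro i
    fin_cases i
    · exact (smul_eq_zero.1 k0).resolve_right (he0 χ₀)
    · exact (smul_eq_zero.1 k1).resolve_right (he0 χ₀)
    · exact (smul_eq_zero.1 k2).resolve_right (he0 χ)
  have hb3c : Equiv.Perm.IsThreeCycle (ψ b) := by
    rw [← card_support_eq_three_iff]
    have hs : (ψ b).support = {χ₀, χb, χc} := by
      ext χ
      simp only [Equiv.Perm.mem_support, Finset.mem_insert, Finset.mem_singleton]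
      constructor
      · intro h
        by_contra hn
        push Not at hn
        exact h (hsupp χ hn.1 hn.2.1 hn.2.2)
      · rintro (rfl | rfl | rfl)
        · exact fun e => hd1 e.symm
        · exact fun e => hd3 e.symm
        · rw [hχc, hχb, hb3]
          exact hd2
    rw [hs, Finset.card_insert_of_notMem (by simp [hd1, hd2]), Finset.card_pair hd3]
  have hbgen : normalClosure ({b} : Set H) = ⊤ := by
    have hbN : zpowers b ≤ normalClosure ({b} : Set H) :=
      zpowers_le.2 (subset_normalClosure rfl)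
    refine top_le_iff.1 (C.gen.symm.le.trans (sup_le ?_ hbN))
    conv_lhs => rw [← C.comm]
    rw [commutator_le]
    intro r _ c hc
    rw [commutatorElement_def]
    exact mul_mem (normalClosure_normal.conj_mem c (hbN hc) r) (inv_mem (hbN hc))
  have hcard := card_le_four C.solv ψ hb3c htr hbgen
  have hn3 : 3 ≤ Fintype.card Ω := by
    have h := hb3c.card_support
    exact h.symm.le.trans (Finset.card_le_univ _)
  -- permutations induced by `R` are even
  have heven : ∀ r ∈ R, Equiv.Perm.sign (ψ r) = 1 := by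
    intro r hr
    have hk : ⁅R, zpowers b⁆ ≤ (Equiv.Perm.sign.comp ψ).ker := by
      rw [commutator_le]
      intro x _ y _
      rw [MonoidHom.mem_ker, map_commutatorElement, commutatorElement_eq_one_iff_mul_comm]
      exact mul_comm _ _
    rw [C.comm] at hk
    exact hk hr
  -- coefficients
  have hs' : ∀ h (χ : Ω), ∃ c : ZMod 3, π h (e χ) = c • e (ψ h χ) := fun h χ =>
    hline _ (e (ψ h χ)) (hemem _) (he0 _) _ (hψW h χ _ (hemem χ))
  choose s hs using hs'
  have hs0 : ∀ h χ, s h χ ≠ 0 := fun h χ e' => he0 χ (hinjh h _ (by rw [hs, e', zero_smul]))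
  have hsmul : ∀ g h χ, s (g * h) χ = s h χ * s g (ψ h χ) := by
    intro g h χ
    have h1 := hs (g * h) χ
    rw [act_mul, hs, map_smul, hs, smul_smul, map_mul, Equiv.Perm.mul_apply] at h1
    exact smul_left_injective _ (he0 _) h1.symm
  have hsq1 : ∀ x : ZMod 3, x ≠ 0 → x * x = 1 := by decide
  have hdiag : ∀ h : H, ∀ c : ZMod 3, (∀ χ, π h (e χ) = c • e χ) → π h = c • 1 := by
    intro h c hc
    refine hdet _ _ fun χ v hv => ?_
    obtain ⟨d, rfl⟩ := hline χ (e χ) (hemem χ) (he0 χ) v hv
    rw [map_smul, hc, LinearMap.smul_apply, Module.End.one_apply, smul_comm]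
  have hcop3 : ∀ r ∈ R, (ψ r) ^ 3 = 1 → ψ r = 1 := fun r hr h3 => orderOf_eq_one_iff.1
    (Nat.eq_one_of_dvd_coprimes C.cop ((orderOf_map_dvd ψ r).trans
      (by rw [← Subgroup.orderOf_mk r hr]; exact orderOf_dvd_natCard _)) (orderOf_dvd_of_pow_eq_one h3))
  have hperm : ∀ (n : ℕ), n ≤ 4 → ∀ σ : Equiv.Perm (Fin n), Equiv.Perm.sign σ = 1 →
      σ ^ 3 = 1 ∨ (n = 4 ∧ σ * σ = 1 ∧ ∀ i, σ i ≠ i) := by decide
  let ee := Fintype.equivFin Ω
  have hR : ∀ r ∈ R, ψ r = 1 ∨ (Fintype.card Ω = 4 ∧ ψ r * ψ r = 1 ∧ ∀ χ, ψ r χ ≠ χ) := by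
    intro r hr
    rcases hperm _ hcard (ee.permCongr (ψ r)) (by rw [Equiv.Perm.sign_permCongr]; exact heven r hr)
      with h | ⟨hn, h, hf⟩
    · exact Or.inl (hcop3 r hr (ee.permCongrHom.injective (by rw [map_pow, map_one]; exact h)))
    · refine Or.inr ⟨hn, ee.permCongrHom.injective (by rw [map_mul, map_one]; exact h), fun χ e' => hf (ee χ) ?_⟩
      rw [Equiv.permCongr_apply, Equiv.symm_apply_apply, e']
  by_cases hall : ∀ r ∈ R, ψ r = 1
  · -- only three weights
    left
    have hc3 : Fintype.card Ω = 3 := by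
      refine le_antisymm ?_ hn3
      let s₀ : Finset Ω := {χ₀, χb, χc}
      have huniv : ∀ χ : Ω, χ ∈ s₀ := by
        intro χ
        obtain ⟨h, rfl⟩ := htr χ₀ χ
        have hh : h ∈ R ⊔ zpowers b := C.gen.ge (mem_top h)
        obtain ⟨r, hr, c, hc, rfl⟩ := mem_sup_of_normal_left.1 hh
        rw [map_mul, hall r hr, one_mul]
        obtain ⟨k, rfl⟩ := mem_zpowers_iff.1 hc
        rw [← Int.emod_add_mul_ediv k 3, zpow_add, zpow_mul, show b ^ (3 : ℤ) = 1 by
          rw [show (3 : ℤ) = ((3 : ℕ) : ℤ) from rfl, zpow_natCast, C.b3], one_zpow, mul_one]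
        rcases (show k % 3 = 0 ∨ k % 3 = 1 ∨ k % 3 = 2 by omega) with h | h | h <;> rw [h]
        · simp [s₀]
        · rw [zpow_one]; simp [s₀, hχb]
        · rw [show (2 : ℤ) = ((2 : ℕ) : ℤ) from rfl, zpow_natCast, pow_two, map_mul,
            Equiv.Perm.mul_apply]
          simp [s₀, hχb, hχc]
      exact (Finset.card_le_card (fun χ _ => huniv χ : Finset.univ ⊆ s₀)).trans
        ((Finset.card_insert_le _ _).trans (by simp [Finset.card_pair hd3]))
    have hcoef : ∀ r ∈ R, ∀ χ, π r (e χ) = s r χ • e χ := fun r hr χ => by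
      rw [hs, hall r hr, Equiv.Perm.one_apply]
    have hRsq : ∀ r ∈ R, r * r = 1 := fun r hr => C.inj (by
      rw [map_one, hdiag (r * r) 1 fun χ => ?_, one_smul]
      rw [act_mul, hcoef r hr, map_smul, hcoef r hr, smul_smul, hsq1 _ (hs0 r χ)])
    have hRab : ∀ x ∈ R, ∀ y ∈ R, x * y = y * x := fun x hx y hy => by
      have h := hRsq _ (mul_mem hx hy)
      rw [mul_eq_one_iff_eq_inv, mul_inv_rev, inv_eq_of_mul_eq_one_right (hRsq x hx),
        inv_eq_of_mul_eq_one_right (hRsq y hy)] at h
      exact h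
    have hinj : Function.Injective (fun r : R => fun χ : Ω => (decide (s (r : H) χ = 1) : Bool)) := by
      intro x y hxy
      refine Subtype.ext (C.inj (hdet _ _ fun χ v hv => ?_))
      obtain ⟨d, rfl⟩ := hline χ (e χ) (hemem χ) (he0 χ) v hv
      rw [map_smul, map_smul, hcoef x x.2, hcoef y y.2]
      have h1 := congrFun hxy χ
      simp only [decide_eq_decide] at h1
      rw [(by decide : ∀ a b : ZMod 3, a ≠ 0 → b ≠ 0 → (a = 1 ↔ b = 1) → a = b) _ _ (hs0 _ χ) (hs0 _ χ) h1]
    have hle8 : Nat.card R ≤ 8 := (Nat.card_le_card_of_injective _ hinj).trans (le_of_eq (by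
      rw [Nat.card_eq_fintype_card, Fintype.card_fun, Fintype.card_bool, hc3]; norm_num))
    have hmod : 3 ∣ Nat.card R - 1 := by
      haveI : Fact (Nat.Prime 3) := ⟨Nat.prime_three⟩
      let σ : MulAut R := MulAut.conjNormal b
      have hp : IsPGroup 3 (zpowers σ) := by
        intro x
        refine ⟨1, ?_⟩
        obtain ⟨x, hx⟩ := x
        obtain ⟨k, rfl⟩ := mem_zpowers_iff.1 hx
        refine Subtype.ext ?_
        show (σ ^ k) ^ (3 ^ 1) = 1
        rw [pow_one, ← zpow_natCast, ← zpow_mul, mul_comm, zpow_mul, zpow_natCast, ← map_pow, C.b3,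
          map_one, one_zpow]
      have h := hp.card_modEq_card_fixedPoints R
      haveI : Subsingleton (MulAction.fixedPoints (zpowers σ) R) := ⟨fun x y => by
        have key : ∀ z : MulAction.fixedPoints (zpowers σ) R, (z : R) = 1 := fun z => by
          have h1 : σ (z : R) = z := z.2 ⟨σ, mem_zpowers σ⟩
          have h2 := congrArg Subtype.val h1
          rw [MulAut.conjNormal_apply, mul_inv_eq_iff_eq_mul] at h2
          exact Subtype.ext (C.fixed_free (MonoidHom.id H) hRab z.1.2 h2)
        exact Subtype.ext ((key x).trans (key y).symm)⟩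
      haveI : Nonempty (MulAction.fixedPoints (zpowers σ) R) := ⟨⟨1, fun g => smul_one g⟩⟩
      rw [Nat.card_of_subsingleton (Classical.arbitrary (MulAction.fixedPoints (zpowers σ) R))] at h
      exact (Nat.modEq_iff_dvd' Nat.card_pos).1 h.symm
    obtain ⟨k, hk⟩ := IsPGroup.iff_card.1 (show IsPGroup 2 R from fun r => ⟨1, Subtype.ext (by
      show (r : H) ^ (2 ^ 1) = 1
      rw [pow_one, pow_two, hRsq r r.2])⟩)
    have hle4 : Nat.card R ≤ 4 := by
      have hk3 : k ≤ 3 := (Nat.pow_le_pow_iff_right (by norm_num : 1 < 2)).1 (hk ▸ hle8)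
      rw [hk] at hmod ⊢
      interval_cases k <;> revert hmod <;> norm_num
    have hui : u⁻¹ = u := inv_eq_of_mul_eq_one_right C.u2
    have htu1 : t * u ≠ 1 := fun h => C.t1 (by
      have h1 := C.conj_u
      rw [h, mul_inv_eq_one, mul_eq_left] at h1
      rwa [h1, mul_one] at h)
    have hu1 : u ≠ 1 := fun h => htu1 (by
      have h1 := C.conj_u
      rw [h, mul_one, mul_inv_cancel, mul_one] at h1
      rw [h, mul_one, h1])
    have htu : t ≠ u := fun h => htu1 (by rw [h]; exact C.u2)
    intro r hr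
    by_contra hcon
    push Not at hcon
    obtain ⟨r1, r2, r3, r4⟩ := hcon
    have ht_tu : t ≠ t * u := fun h => hu1 (left_eq_mul.1 h)
    have hu_tu : u ≠ t * u := fun h => C.t1 (right_eq_mul.1 h)
    have hsub : ({1, t, u, t * u, r} : Finset H) ⊆ (R : Set H).toFinite.toFinset := by
      simp only [Finset.insert_subset_iff, Finset.singleton_subset_iff, Set.Finite.mem_toFinset,
        SetLike.mem_coe]
      exact ⟨one_mem R, C.tR, C.uR, mul_mem C.tR C.uR, hr⟩
    have h5 := Finset.card_le_card hsub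
    rw [Finset.card_insert_of_notMem (by simp [C.t1.symm, hu1.symm, htu1.symm, r1.symm]),
      Finset.card_insert_of_notMem (by simp [htu, ht_tu, r2.symm]),
      Finset.card_insert_of_notMem (by simp [hu_tu, r3.symm]),
      Finset.card_pair r4.symm, ← Nat.card_eq_card_finite_toFinset] at h5
    change 1 + 1 + 1 + 1 + 1 ≤ Nat.card R at h5
    omega
  · -- four weights
    right
    push Not at hall
    obtain ⟨r₁, hr₁, hψr₁⟩ := hall
    let φ : H →* ZMod 3 :=
      { toFun := fun h => ∏ χ, s h χ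
        map_one' := Finset.prod_eq_one fun χ _ => by
          have h1 := hs 1 χ
          rw [act_one, map_one, Equiv.Perm.one_apply] at h1
          exact smul_left_injective (ZMod 3) (he0 χ) (h1.symm.trans (one_smul _ _).symm)
        map_mul' := fun g h => by
          simp only [hsmul, Finset.prod_mul_distrib]
          rw [Equiv.prod_comp (ψ h) (s g), mul_comm] }
    have hφR : ∀ r ∈ R, φ r = 1 := by
      intro r hr
      have hk : ⁅R, zpowers b⁆ ≤ (φ.toHomUnits).ker := by
        rw [commutator_le]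
        intro x _ y _
        rw [MonoidHom.mem_ker, map_commutatorElement, commutatorElement_eq_one_iff_mul_comm]
        exact mul_comm _ _
      rw [C.comm] at hk
      exact congrArg Units.val (hk hr : φ.toHomUnits r = 1)
    have hsquare : ∀ r ∈ R, Scal π (r * r) := by
      intro r hr
      rcases hR r hr with h | ⟨hn, h, hf⟩
      · exact Or.inl (by
          rw [hdiag (r * r) 1 fun χ => ?_, one_smul]
          rw [act_mul, hs, h, Equiv.Perm.one_apply, map_smul, hs, h, Equiv.Perm.one_apply, smul_smul,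
            hsq1 _ (hs0 r χ)])
      · set c : Ω → ZMod 3 := fun χ => s r χ * s r (ψ r χ)
        have hinv : ∀ χ, ψ r (ψ r χ) = χ := fun χ => by rw [← Equiv.Perm.mul_apply, h, Equiv.Perm.one_apply]
        have hconst : ∀ χ, c χ = c χ₀ := by
          intro χ
          by_cases h1 : χ = χ₀
          · rw [h1]
          by_cases h2' : χ = ψ r χ₀
          · show s r χ * s r (ψ r χ) = s r χ₀ * s r (ψ r χ₀)
            rw [h2', hinv, mul_comm]
          have hne : ∀ x y : ZMod 3, x ≠ 0 → y ≠ 0 → x * y = 1 → x = y := by decide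
          refine hne _ _ (mul_ne_zero (hs0 _ _) (hs0 _ _)) (mul_ne_zero (hs0 _ _) (hs0 _ _)) ?_
          have h5 : ψ r χ ≠ χ₀ := fun e' => h2' (by rw [← e', hinv])
          have h6 : ψ r χ ≠ ψ r χ₀ := fun e' => h1 ((ψ r).injective e')
          have hset : (Finset.univ : Finset Ω) = {χ, ψ r χ, χ₀, ψ r χ₀} :=
            (Finset.eq_univ_of_card _ (by
              rw [hn]
              simp [h1, h2', h5, h6, hf χ, (hf χ₀).symm, Ne.symm (hf χ)])).symm
          have hp : ∏ x, s r x = 1 := hφR r hr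
          rw [hset, Finset.prod_insert (by simp [h1, h2', Ne.symm (hf χ)]),
            Finset.prod_insert (by simp [h5, h6]), Finset.prod_pair (hf χ₀).symm] at hp
          rw [← hp]
          ring
        have hsc : π (r * r) = c χ₀ • 1 := hdiag _ _ fun χ => by
          rw [act_mul, hs, map_smul, hs, smul_smul, hinv]
          show c χ • _ = _
          rw [hconst]
        rcases (by decide : ∀ x : ZMod 3, x ≠ 0 → x = 1 ∨ x = -1) (c χ₀)
          (mul_ne_zero (hs0 _ _) (hs0 _ _)) with h' | h'
        · exact Or.inl (by rw [hsc, h', one_smul])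
        · exact Or.inr (by rw [hsc, h']; ext w; simp)
    refine ⟨fun r => ⟨2, Subtype.ext ?_⟩, hsquare, r₁, hr₁, ?_⟩
    · show (r : H) ^ (2 ^ 2) = 1
      calc (r : H) ^ (2 ^ 2) = (r * r : H) * (r * r) := by
            rw [show (2 : ℕ) ^ 2 = 2 + 2 from rfl, pow_add, pow_two]
        _ = 1 := C.scal_sq (hsquare r r.2)
    · by_contra hc
      push Not at hc
      refine hψr₁ (Equiv.ext fun χ => Subtype.ext (funext fun a => ?_))
      rw [wperm_val]
      show χ.1 _ = χ.1 a
      refine congrArg χ.1 (Subtype.ext ?_)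
      show r₁⁻¹ * (a : H) * r₁ = a
      rw [mul_assoc, ← hc a a.2, inv_mul_cancel_left]

end Ctx

end CfsgLib.CubicThree
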