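import Cfsg.Agent.Lib.CubicThree.Frame

/-!
# Subgroups of order prime to six normalised by the four-group commute with the cubic element
-/

set_option autoImplicit false

namespace CfsgLib.CubicThree

open Module

variable {H V : Type*} [Group H] [Finite H] [AddCommGroup V] [Module (ZMod 3) V] [Finite V]
  {π : Representation (ZMod 3) H V} {b t u : H}

omit [Finite V] in
theorem coprime_six_of_mem {Y : Subgroup H} (hY : (Nat.card Y).Coprime 6) {y : H} (hy : y ∈ Y) :
    (orderOf y).Coprime 6 :=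
  Nat.Coprime.coprime_dvd_left (by rw [← Subgroup.orderOf_mk y hy]; exact orderOf_dvd_natCard _) hY

/-- An element of order prime to six is trivial on an invariant subspace of dimension at most two. -/
theorem trivial_of_small (π : Representation (ZMod 3) H V) {g : H} (hg : (orderOf g).Coprime 6)
    (X : Submodule (ZMod 3) V) (hinv : ∀ x ∈ X, π g x ∈ X) (hdim : finrank (ZMod 3) X ≤ 2) :
    ∀ x ∈ X, π g x = x := by
  have hinj : Function.Injective (π g) := fun v w h => by
    have := congrArg (π g⁻¹) h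
    rwa [← act_mul, ← act_mul, inv_mul_cancel, act_one, act_one] at this
  let f : X →ₗ[ZMod 3] X := (π g).restrict hinv
  have hfb : Function.Bijective f := Finite.injective_iff_bijective.1 fun v w h =>
    Subtype.ext (hinj (congrArg Subtype.val h))
  let σ : MulAut (Multiplicative X) :=
    AddEquiv.toMultiplicative (AddEquiv.ofBijective f.toAddMonoidHom hfb)
  have hσ : ∀ (n : ℕ) (x : X), ((σ ^ n) (Multiplicative.ofAdd x)) = Multiplicative.ofAdd
      ((f ^ n) x) := by
    intro n x
    induction n with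
    | zero => rfl
    | succ n ih => rw [pow_succ', MulAut.mul_apply, ih, pow_succ']; rfl
  have hf : ∀ (n : ℕ) (x : X), (((f ^ n) x : X) : V) = π (g ^ n) (x : V) := by
    intro n x
    induction n with
    | zero => simp [act_one]
    | succ n ih => rw [pow_succ', Module.End.mul_apply, pow_succ', act_mul, ← ih]; rfl
  have hord : σ ^ orderOf g = 1 := MulEquiv.ext fun x => by
    rw [← ofAdd_toAdd x, hσ]
    refine congrArg Multiplicative.ofAdd (Subtype.ext ?_)
    rw [hf, pow_orderOf_eq_one, act_one]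
    rfl
  by_contra hne
  push Not at hne
  obtain ⟨x, hx, hgx⟩ := hne
  have hσ1 : σ ≠ 1 := fun h => hgx (by
    have h1 := congrArg (fun s : MulAut (Multiplicative X) => s (Multiplicative.ofAdd (⟨x, hx⟩ : X))) h
    exact congrArg Subtype.val (Multiplicative.ofAdd.injective h1))
  obtain ⟨q, k, hq, hk, hd⟩ := exists_prime_power_order hσ1
  have hqg : q ∣ orderOf g := hd.trans (orderOf_dvd_of_pow_eq_one hord)
  have hq6 : q.Coprime 6 := Nat.Coprime.coprime_dvd_left hqg hg
  have hcard : Nat.card (Multiplicative X) = 3 ^ finrank (ZMod 3) X := by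
    rw [show Nat.card (Multiplicative X) = Nat.card X from rfl,
      Module.natCard_eq_pow_finrank (K := ZMod 3), Nat.card_zmod]
  rcases prime_of_card_three hq (by omega) hcard (σ := σ ^ k) (by rw [← hk, pow_orderOf_eq_one])
    (fun h => hq.ne_one (by rw [← hk, h, orderOf_one])) with rfl | rfl | ⟨rfl, h⟩ | ⟨rfl, h⟩
  · norm_num at hq6
  · norm_num at hq6
  · omega
  · omega

omit [Finite V] in
/-- An element of order prime to three trivial on a series of two steps is trivial. -/
theorem trivial_of_series (π : Representation (ZMod 3) H V) {g : H} (hg : (orderOf g).Coprime 6)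
    {v d : V} (hd : π g v = v + d) (hgd : π g d = d) : π g v = v := by
  have hn : ∀ n : ℕ, π (g ^ n) v = v + n • d := by
    intro n
    induction n with
    | zero => simp [act_one]
    | succ n ih => rw [pow_succ', act_mul, ih, map_add, map_nsmul, hd, hgd, succ_nsmul']; abel
  have h := hn (orderOf g)
  rw [pow_orderOf_eq_one, act_one, left_eq_add] at h
  have h3 : (orderOf g : ZMod 3) ≠ 0 := fun h0 => by
    rw [ZMod.natCast_eq_zero_iff] at h0
    exact absurd (Nat.eq_one_of_dvd_coprimes hg h0 (by norm_num)) (by norm_num)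
  rw [← Nat.cast_smul_eq_nsmul (ZMod 3)] at h
  rw [hd, (smul_eq_zero.1 h).resolve_left h3, add_zero]

omit [Finite H] in
/-- The frame seen from the next involution. -/
theorem Frame.next (F : Frame π b t u) : Frame π b u (t * u) where
  inj := F.inj
  t2 := F.u2
  u2 := by
    calc t * u * (t * u) = t * (u * t) * u := by group
      _ = (t * t) * (u * u) := by rw [← F.tu]; group
      _ = 1 := by rw [F.t2, F.u2, one_mul]
  tu := by rw [← mul_assoc, ← F.tu]
  t1 := fun h => F.t1 (by
    have h1 := F.conj_t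
    rwa [h, mul_inv_eq_one, mul_eq_left] at h1)
  conj_t := F.conj_u
  conj_u := by
    calc b * (t * u) * b⁻¹ = (b * t * b⁻¹) * (b * u * b⁻¹) := by group
      _ = u * (t * u) := by rw [F.conj_t, F.conj_u]
  b3 := F.b3
  rank := F.rank

omit [Finite H] in
theorem Frame.next_next_eq (F : Frame π b t u) : u * (t * u) = t := by
  rw [← mul_assoc, ← F.tu, mul_assoc, F.u2, mul_one]

namespace Frame

variable (F : Frame π b t u)
include F

omit [Finite H] in
/-- The other two weight lines. -/
theorem lines_others {v : Fin 3 → V} (h01 : π b (v 0) = v 1) (h12 : π b (v 1) = v 2)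
    (hline : ∀ w, π t w = w → π u w = -w → ∃ c : ZMod 3, w = c • v 0) :
    (∀ w, π t w = -w → π u w = w → ∃ c : ZMod 3, w = c • v 1) ∧
    (∀ w, π t w = -w → π u w = -w → ∃ c : ZMod 3, w = c • v 2) := by
  have hb3 : ∀ w, π b (π b (π b w)) = w := fun w => by
    rw [← act_mul, ← act_mul, ← pow_three', F.b3, act_one]
  constructor
  · intro w h1 h2
    obtain ⟨c, hc⟩ := hline (π b (π b w)) (by simp [F.t_b, F.u_b, F.tt, F.uu, F.tu', h1, h2])
      (by simp [F.t_b, F.u_b, F.tt, F.uu, F.tu', h1, h2])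
    exact ⟨c, by rw [← hb3 w, hc, map_smul, h01]⟩
  · intro w h1 h2
    obtain ⟨c, hc⟩ := hline (π b w) (by simp [F.t_b, h1, h2]) (by simp [F.u_b, h1])
    exact ⟨c, by rw [← hb3 w, hc, map_smul, map_smul, h01, h12]⟩

/-- An element of order prime to six centralising `t` centralises `u`. -/
theorem comm_step {Y : Subgroup H} (hY : (Nat.card Y).Coprime 6) (hu : ∀ y ∈ Y, u * y * u⁻¹ ∈ Y)
    {y : H} (hy : y ∈ Y) (hyt : y * t = t * y) : y * u = u * y := by
  obtain ⟨v, -, h01, h12, -, ht0, hu0, -, -, -, -, -, hline, -⟩ := F.exists_lines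
  obtain ⟨hl1, hl2⟩ := F.lines_others h01 h12 hline
  set z := y * u * y⁻¹ * u with hz
  have hui : u⁻¹ = u := inv_eq_of_mul_eq_one_right F.u2
  have hzY : z ∈ Y := by
    have := Y.mul_mem hy (hu y⁻¹ (inv_mem hy))
    rw [hui, ← mul_assoc, ← mul_assoc] at this
    exact this
  have hcy := coprime_six_of_mem hY hy
  have hcz := coprime_six_of_mem hY hzY
  have hyti : ∀ w, π t (π y w) = π y (π t w) := fun w => by rw [← act_mul, ← act_mul, hyt]
  have hyti' : ∀ w, π t (π y⁻¹ w) = π y⁻¹ (π t w) := fun w => by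
    have h := congrArg (π y⁻¹) (hyti (π y⁻¹ w))
    rw [← act_mul π y y⁻¹, mul_inv_cancel, act_one, ← act_mul π y⁻¹ y, inv_mul_cancel, act_one] at h
    exact h.symm
  have huti : ∀ w, π t (π u w) = π u (π t w) := F.tu'
  -- on the `-1` eigenspace of `t`
  let M : Submodule (ZMod 3) V := LinearMap.ker (π t + 1)
  have hMmem : ∀ w, w ∈ M ↔ π t w = -w := fun w => by
    simp [M, LinearMap.mem_ker, eq_neg_iff_add_eq_zero]
  have hMspan : M ≤ Submodule.span (ZMod 3) ({v 1, v 2} : Set V) := by
    intro w hw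
    rw [hMmem] at hw
    obtain ⟨c1, hc1⟩ := hl1 (w + π u w) (by rw [map_add, huti, hw, map_neg]; abel)
      (by rw [map_add, F.uu]; abel)
    obtain ⟨c2, hc2⟩ := hl2 (w - π u w) (by rw [map_sub, huti, hw, map_neg]; abel)
      (by rw [map_sub, F.uu]; abel)
    refine Submodule.mem_span_pair.2 ⟨-c1, -c2, ?_⟩
    have h9 := three_smul_eq_zero w
    rw [neg_smul, neg_smul, ← hc1, ← hc2]
    linear_combination (norm := module) -h9
  have hMdim : finrank (ZMod 3) M ≤ 2 := by
    classical
    refine (Submodule.finrank_mono hMspan).trans ?_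
    have h := finrank_span_finset_le_card (R := ZMod 3) ({v 1, v 2} : Finset V)
    simp only [Finset.coe_insert, Finset.coe_singleton] at h
    exact h.trans (Finset.card_le_two)
  have hyM : ∀ w ∈ M, π y w = w := trivial_of_small π hcy M
    (fun w hw => by rw [hMmem] at hw ⊢; rw [hyti, hw, map_neg]) hMdim
  have hzM : ∀ w, π t w = -w → π z w = w := by
    intro w hw
    have h1 : π u w ∈ M := by rw [hMmem, huti, hw, map_neg]
    have h2 : π y⁻¹ (π u w) = π u w := by
      conv_lhs => rw [← hyM _ h1]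
      rw [← act_mul, inv_mul_cancel, act_one]
    rw [hz, act_mul, act_mul, act_mul, h2, F.uu, hyM w ((hMmem w).2 hw)]
  -- on the fixed space of `t`
  let X : Submodule (ZMod 3) V := Submodule.span (ZMod 3) ({v 0, π y (v 0)} : Set V)
  have hu_move : ∀ w, π t w = w → ∃ c : ZMod 3, π u w = w + c • v 0 := by
    intro w hw
    obtain ⟨c, hc⟩ := hline (π u w - w) (by rw [map_sub, huti, hw]) (by rw [map_sub, F.uu]; abel)
    exact ⟨c, by rw [← hc]; abel⟩
  have hz_move : ∀ w, π t w = w → π z w - w ∈ X := by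
    intro w hw
    obtain ⟨c, hc⟩ := hu_move w hw
    have hw' : π t (π y⁻¹ (π u w)) = π y⁻¹ (π u w) := by rw [hyti', huti, hw]
    obtain ⟨c', hc'⟩ := hu_move _ hw'
    have h2 : π z w = w + c • v 0 + c' • π y (v 0) := by
      rw [hz, act_mul, act_mul, act_mul, hc', map_add, map_smul, ← act_mul π y y⁻¹, mul_inv_cancel,
        act_one, hc]
    rw [h2, Submodule.mem_span_pair]
    exact ⟨c, c', by abel⟩
  have hXt : ∀ x ∈ X, π t x = x := by
    intro x hx
    obtain ⟨c, c', rfl⟩ := Submodule.mem_span_pair.1 hx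
    rw [map_add, map_smul, map_smul, ht0, hyti, ht0]
  have hzX : ∀ x ∈ X, π z x = x := by
    classical
    refine trivial_of_small π hcz X (fun x hx => ?_) ?_
    · have := Submodule.add_mem _ (hz_move x (hXt x hx)) hx
      rwa [sub_add_cancel] at this
    · have h := finrank_span_finset_le_card (R := ZMod 3) ({v 0, π y (v 0)} : Finset V)
      simp only [Finset.coe_insert, Finset.coe_singleton] at h
      exact h.trans (Finset.card_le_two)
  have hzK : ∀ w, π t w = w → π z w = w := fun w hw =>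
    trivial_of_series π hcz (d := π z w - w) (by abel) (hzX _ (hz_move w hw))
  have hz1 : z = 1 := by
    refine act_eq π F.inj fun w => ?_
    have h9 := three_smul_eq_zero w
    have e : w = -(w + π t w) + -(w - π t w) := by linear_combination (norm := module) h9
    have h1 : π z (w + π t w) = w + π t w := hzK _ (by rw [map_add, F.tt]; abel)
    have h2 : π z (w - π t w) = w - π t w := hzM _ (by rw [map_sub, F.tt]; abel)
    rw [act_one]
    conv_lhs => rw [e, map_add, map_neg, map_neg, h1, h2]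
    exact e.symm
  have h3 : y * u * y⁻¹ = u := by
    have := eq_inv_of_mul_eq_one_left (show y * u * y⁻¹ * u = 1 from hz1)
    rwa [hui] at this
  exact mul_inv_eq_iff_eq_mul.1 h3

end Frame

/-- Splitting along an involution normalising a group of odd order. -/
theorem exists_inverted {Y : Subgroup H} (hY : (Nat.card Y).Coprime 6) {τ : H} (hτ : τ * τ = 1)
    (hn : ∀ y ∈ Y, τ * y * τ⁻¹ ∈ Y) {y : H} (hy : y ∈ Y) :
    ∃ s ∈ Y, τ * s * τ = s⁻¹ ∧ τ * (s⁻¹ * y) * τ = s⁻¹ * y := by
  have hi : τ⁻¹ = τ := inv_eq_of_mul_eq_one_right hτ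
  set c := y * (τ * y⁻¹ * τ) with hc
  have hcY : c ∈ Y := mul_mem hy (by have := hn _ (inv_mem hy); rwa [hi] at this)
  have hodd : (orderOf c).Coprime 2 :=
    Nat.Coprime.coprime_dvd_right (by norm_num) (coprime_six_of_mem hY hcY)
  obtain ⟨m, hm⟩ := exists_pow_eq_self_of_coprime hodd.symm
  have hcinv : τ * c * τ = c⁻¹ := by
    have e : c = y * τ * y⁻¹ * τ := by rw [hc]; group
    rw [e, mul_inv_rev, mul_inv_rev, mul_inv_rev, inv_inv, hi]
    calc τ * (y * τ * y⁻¹ * τ) * τ = τ * y * τ * y⁻¹ * (τ * τ) := by group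
      _ = τ * (y * (τ * y⁻¹)) := by rw [hτ]; group
  have hpow : ∀ n : ℕ, τ * c ^ n * τ = (c ^ n)⁻¹ := by
    intro n
    have h := (conj_pow (i := n) (a := τ) (b := c))
    rw [hi, hcinv, inv_pow] at h
    exact h.symm
  refine ⟨c ^ m, pow_mem hcY m, hpow m, ?_⟩
  have hsq : c ^ m * c ^ m = c := by rw [← pow_two, ← pow_mul, mul_comm, pow_mul]; exact hm
  have hy' : τ * y * τ = c⁻¹ * y := by
    rw [hc, mul_inv_rev, mul_inv_rev, mul_inv_rev, inv_inv, hi]; group
  calc τ * ((c ^ m)⁻¹ * y) * τ = (τ * c ^ m * τ)⁻¹ * (τ * y * τ) := by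
        rw [mul_inv_rev, mul_inv_rev, hi]
        calc τ * ((c ^ m)⁻¹ * y) * τ = τ * (c ^ m)⁻¹ * (1 : H) * y * τ := by group
          _ = τ * (c ^ m)⁻¹ * (τ * τ) * y * τ := by rw [hτ]
          _ = τ * ((c ^ m)⁻¹ * τ) * (τ * y * τ) := by group
    _ = c ^ m * (c⁻¹ * y) := by rw [hpow, inv_inv, hy']
    _ = c ^ m * ((c ^ m * c ^ m)⁻¹ * y) := by rw [hsq]
    _ = (c ^ m)⁻¹ * y := by group

/-- A group of order prime to six normalised by the four-group commutes with `b`. -/
theorem Frame.comm_b_of_odd (F : Frame π b t u) {Y : Subgroup H} (hY : (Nat.card Y).Coprime 6)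
    (ht : ∀ y ∈ Y, t * y * t⁻¹ ∈ Y) (hu : ∀ y ∈ Y, u * y * u⁻¹ ∈ Y) :
    ∀ y ∈ Y, b * y = y * b := by
  have hti : t⁻¹ = t := inv_eq_of_mul_eq_one_right F.t2
  have hui : u⁻¹ = u := inv_eq_of_mul_eq_one_right F.u2
  have htu : ∀ y ∈ Y, (t * u) * y * (t * u)⁻¹ ∈ Y := fun y hy => by
    have := ht _ (hu y hy)
    simpa [mul_assoc] using this
  have k1 : ∀ y ∈ Y, y * t = t * y → y * u = u * y := fun y hy => F.comm_step hY hu hy
  have k2 : ∀ y ∈ Y, y * u = u * y → y * (t * u) = (t * u) * y := fun y hy =>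
    F.next.comm_step hY htu hy
  have k3 : ∀ y ∈ Y, y * (t * u) = (t * u) * y → y * t = t * y := fun y hy h => by
    have := F.next.next.comm_step hY (y := y) (by rw [F.next_next_eq]; exact ht) hy h
    rwa [F.next_next_eq] at this
  have hall : ∀ y ∈ Y, y * t = t * y := by
    intro y hy
    obtain ⟨s, hs, hst, hsy⟩ := exists_inverted hY F.t2 ht hy
    obtain ⟨r, hr, hru, hry⟩ := exists_inverted hY F.u2 hu hs
    set y0 := r⁻¹ * s with hy0
    have hy0u : y0 * u = u * y0 := by
      conv_rhs => rw [← hry]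
      rw [← mul_assoc, ← mul_assoc, F.u2, one_mul]
    have hy0t : y0 * t = t * y0 := k3 _ (mul_mem (inv_mem hr) hs) (k2 _ (mul_mem (inv_mem hr) hs) hy0u)
    set r' := t * r * t with hr'
    have hA : r' * y0 = y0⁻¹ * r⁻¹ := by
      calc r' * y0 = t * r * (t * y0) := by rw [hr']; group
        _ = t * r * (y0 * t) := by rw [hy0t]
        _ = t * s * t := by rw [hy0]; group
        _ = s⁻¹ := hst
        _ = y0⁻¹ * r⁻¹ := by rw [hy0]; group
    have hru' : u * r' * u = r'⁻¹ := by
      rw [hr', mul_inv_rev, mul_inv_rev, hti]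
      calc u * (t * r * t) * u = (u * t) * r * (t * u) := by group
        _ = t * (u * r * u) * t := by rw [← F.tu]; nth_rewrite 2 [F.tu]; group
        _ = t * (r⁻¹ * t) := by rw [hru]; group
    have hB : r'⁻¹ * y0 = y0⁻¹ * r := by
      calc r'⁻¹ * y0 = u * r' * (u * y0) := by rw [← hru']; group
        _ = u * r' * (y0 * u) := by rw [hy0u]
        _ = u * (r' * y0) * u := by group
        _ = (u * y0⁻¹) * r⁻¹ * u := by rw [hA]; group
        _ = (y0⁻¹ * u) * r⁻¹ * u := by rw [(show Commute y0 u from hy0u).inv_left.eq]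
        _ = y0⁻¹ * (u⁻¹ * r⁻¹ * u⁻¹) := by rw [hui]; group
        _ = y0⁻¹ * r := by
          rw [show u⁻¹ * r⁻¹ * u⁻¹ = (u * r * u)⁻¹ by group, hru, inv_inv]
    set e := y0 * y0 with he
    have hconj : r⁻¹ * e * r = e⁻¹ := by
      have h1 : r'⁻¹ = y0 * r * y0 := by
        have := congrArg (fun x => x⁻¹) (eq_mul_inv_of_mul_eq hA)
        simpa [mul_assoc] using this
      rw [h1] at hB
      have h2 : y0 * r * e = y0⁻¹ * r := by rw [he, ← hB]; group
      calc r⁻¹ * e * r = r⁻¹ * y0 * (y0 * r * e) * e⁻¹ := by rw [he]; group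
        _ = r⁻¹ * y0 * (y0⁻¹ * r) * e⁻¹ := by rw [h2]
        _ = e⁻¹ := by group
    have hit : ∀ n : ℕ, (r ^ n)⁻¹ * e * r ^ n = e ^ ((-1 : ℤ) ^ n) := by
      intro n
      induction n with
      | zero => simp
      | succ n ih =>
        have h5 := conj_zpow (i := (-1 : ℤ) ^ n) (a := r⁻¹) (b := e)
        rw [inv_inv, hconj] at h5
        calc (r ^ (n + 1))⁻¹ * e * r ^ (n + 1) = r⁻¹ * ((r ^ n)⁻¹ * e * r ^ n) * r := by
              rw [pow_succ]; group
          _ = r⁻¹ * e ^ ((-1 : ℤ) ^ n) * r := by rw [ih]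
          _ = e⁻¹ ^ ((-1 : ℤ) ^ n) := h5.symm
          _ = e ^ ((-1 : ℤ) ^ (n + 1)) := by rw [inv_zpow', pow_succ, mul_neg_one]
    have hyodd : ∀ {w : H}, w ∈ Y → w * w = 1 → w = 1 := fun {w} hw h => by
      refine orderOf_eq_one_iff.1 (Nat.eq_one_of_dvd_coprimes (coprime_six_of_mem hY hw) dvd_rfl
        (dvd_trans (orderOf_dvd_of_pow_eq_one (n := 2) (by rw [pow_two, h])) (by norm_num)))
    have he1 : e = 1 := by
      have hodd : Odd (orderOf r) := Nat.coprime_two_right.1
        (Nat.Coprime.coprime_dvd_right (by norm_num) (coprime_six_of_mem hY hr))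
      have h6 := hit (orderOf r)
      rw [pow_orderOf_eq_one, inv_one, one_mul, mul_one, hodd.neg_one_pow, zpow_neg_one] at h6
      have hey : e ∈ Y := mul_mem (mul_mem (inv_mem hr) hs) (mul_mem (inv_mem hr) hs)
      exact hyodd hey (by nth_rewrite 1 [h6]; exact inv_mul_cancel e)
    have hy01 : y0 = 1 := hyodd (mul_mem (inv_mem hr) hs) he1
    have hsr : s = r := (inv_mul_eq_one.1 (hy0 ▸ hy01)).symm
    have hs1 : s = 1 := by
      have hcomm : s * (t * u) = (t * u) * s := by
        have h7 : t * (u * s * u) * t = s := by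
          rw [hsr, hru, ← inv_inj, ← hsr]
          rw [show (t * s⁻¹ * t)⁻¹ = t⁻¹ * s * t⁻¹ by group, hti, hst]
        calc s * (t * u) = t * (u * s * u) * t * (t * u) := by rw [h7]
          _ = t * u * s * (u * (t * t) * u) := by group
          _ = (t * u) * s := by rw [F.t2, mul_one, F.u2, mul_one]
      have h8 := k3 s hs hcomm
      refine hyodd hs ?_
      have h9 : t * s * t = s := by rw [← h8, mul_assoc, F.t2, mul_one]
      nth_rewrite 1 [← h9]
      rw [hst, inv_mul_cancel]
    rw [hs1, inv_one, one_mul] at hsy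
    conv_rhs => rw [← hsy]
    rw [← mul_assoc, ← mul_assoc, F.t2, one_mul]
  intro y hy
  have hyt := hall y hy
  have hyu := k1 y hy hyt
  obtain ⟨v, hind, h01, h12, h20, ht0, hu0, ht1, hu1, ht2, hu2, -, hline, hfix⟩ := F.exists_lines
  obtain ⟨hl1, hl2⟩ := F.lines_others h01 h12 hline
  have hcy := coprime_six_of_mem hY hy
  have hyl : ∀ i, π y (v i) = v i := by
    intro i
    have hmem : ∃ c : ZMod 3, π y (v i) = c • v i := by
      rcases (by decide +revert : i = 0 ∨ i = 1 ∨ i = 2) with rfl | rfl | rfl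
      · exact hline _ (by rw [← act_mul, ← hyt, act_mul, ht0])
          (by rw [← act_mul, ← hyu, act_mul, hu0, map_neg])
      · exact hl1 _ (by rw [← act_mul, ← hyt, act_mul, ht1, map_neg])
          (by rw [← act_mul, ← hyu, act_mul, hu1])
      · exact hl2 _ (by rw [← act_mul, ← hyt, act_mul, ht2, map_neg])
          (by rw [← act_mul, ← hyu, act_mul, hu2, map_neg])
    refine trivial_of_small π hcy (Submodule.span (ZMod 3) {v i}) (fun x hx => ?_) ?_ (v i)
      (Submodule.mem_span_singleton_self _)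
    · obtain ⟨c, rfl⟩ := Submodule.mem_span_singleton.1 hx
      obtain ⟨c', hc'⟩ := hmem
      rw [map_smul, hc', smul_smul]
      exact Submodule.mem_span_singleton.2 ⟨_, rfl⟩
    · refine le_trans ?_ one_le_two
      exact (finrank_span_singleton (hind.ne_zero i)).le
  refine act_eq π F.inj fun w => ?_
  obtain ⟨x, y', z', w', rfl, ⟨hx1, hx2⟩, ⟨hy1, hy2⟩, ⟨hz1, hz2⟩, hw1, hw2⟩ := F.exists_split w
  obtain ⟨c0, rfl⟩ := hline x hx1 hx2
  obtain ⟨c1, rfl⟩ := hl1 y' hy1 hy2
  obtain ⟨c2, rfl⟩ := hl2 z' hz1 hz2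
  have hw' : π b w' = w' := hfix w' hw1 hw2
  have hyw : π b (π y w') = π y w' := hfix _ (by rw [← act_mul, ← hyt, act_mul, hw1])
    (by rw [← act_mul, ← hyu, act_mul, hw2])
  simp only [act_mul, map_add, map_smul, h01, h12, h20, hyl, hw', hyw]

/-- Central elements act as `± 1` when the module is irreducible. -/
theorem Frame.scalar_of_central (F : Frame π b t u) [Nontrivial V]
    (hirr : ∀ X : Submodule (ZMod 3) V, (∀ h, ∀ v ∈ X, π h v ∈ X) → X = ⊥ ∨ X = ⊤)
    {z : H} (hz : ∀ h, z * h = h * z) : π z = 1 ∨ π z = -1 := by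
  obtain ⟨v, hind, h01, h12, h20, -, -, -, -, -, -, hr, -, -⟩ := F.exists_lines
  set s := v 0 + v 1 + v 2 with hs
  have hs0 : s ≠ 0 := fun h => by
    have := Fintype.linearIndependent_iff.1 hind (fun _ => 1) (by simpa [Fin.sum_univ_three] using h) 0
    exact one_ne_zero this
  have hN2 : ∀ w, ∃ c : ZMod 3, π b (π b w - w) - (π b w - w) = c • s := by
    intro w
    obtain ⟨α, β, hab⟩ := Submodule.mem_span_pair.1 (hr w)
    refine ⟨α + β, ?_⟩
    rw [← hab, map_add, map_smul, map_smul, map_sub, map_sub, h01, h12, h20, hs]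
    have h9 := three_smul_eq_zero (v 1)
    have h8 := three_smul_eq_zero (v 2)
    linear_combination (norm := module) (-α) • h9 + (-β) • h8
  obtain ⟨c, hc⟩ := hN2 (π z (v 0))
  have hzs : π z s = c • s := by
    rw [← hc]
    have e : π b (π b (v 0) - v 0) - (π b (v 0) - v 0) = s := by
      rw [map_sub, h01, h12, hs]
      have h9 := three_smul_eq_zero (v 1)
      linear_combination (norm := module) -h9
    have hzb : ∀ w, π z (π b w) = π b (π z w) := fun w => by rw [← act_mul, hz, act_mul]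
    conv_lhs => rw [← e]
    simp only [map_sub, hzb]
  have hc0 : c ≠ 0 := fun h => hs0 (by
    have := congrArg (π z⁻¹) hzs
    rwa [← act_mul, inv_mul_cancel, act_one, h, zero_smul, map_zero] at this)
  have htop : LinearMap.ker (π z - c • 1) = ⊤ := by
    refine (hirr _ fun h w hw => ?_).resolve_left fun hb => hs0 ?_
    · simp only [LinearMap.mem_ker, LinearMap.sub_apply, LinearMap.smul_apply, Module.End.one_apply,
        sub_eq_zero] at hw ⊢
      rw [← act_mul, hz, act_mul, hw, map_smul]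
    · rw [← Submodule.mem_bot (ZMod 3), ← hb]
      simp [hzs]
  rw [LinearMap.ker_eq_top, sub_eq_zero] at htop
  have h12' : c = 1 ∨ c = -1 :=
    (by decide : ∀ x : ZMod 3, x ≠ 0 → x = 1 ∨ x = -1) c hc0
  rcases h12' with rfl | rfl
  · exact Or.inl (by rw [htop, one_smul])
  · exact Or.inr (by rw [htop]; ext w; simp)

end CfsgLib.CubicThree
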