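import Cfsg.Agent.Lib.CubicThree.Structure
import Cfsg.Agent.Lib.Coprime.SymplecticType

/-!
# The two possible shapes of `R`
-/

set_option autoImplicit false

namespace CfsgLib.CubicThree

open Subgroup Module
open scoped commutatorElement

variable {H V : Type*} [Group H] [AddCommGroup V] [Module (ZMod 3) V]
  {π : Representation (ZMod 3) H V} {R : Subgroup H} {b t u : H}

/-- The four-group of a frame. -/
def fourGrp (F : Frame π b t u) : Subgroup H where
  carrier := {x | x = 1 ∨ x = t ∨ x = u ∨ x = t * u}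
  one_mem' := Or.inl rfl
  mul_mem' := by
    have h1 : ∀ x : H, t * (t * x) = x := fun x => by rw [← mul_assoc, F.t2, one_mul]
    have h2 : ∀ x : H, u * (u * x) = x := fun x => by rw [← mul_assoc, F.u2, one_mul]
    have h3 : ∀ x : H, u * (t * x) = t * (u * x) := fun x => by rw [← mul_assoc, ← F.tu, mul_assoc]
    rintro x y (rfl | rfl | rfl | rfl) (rfl | rfl | rfl | rfl) <;>
      simp [mul_assoc, h1, h2, h3, F.t2, F.u2, ← F.tu]
  inv_mem' := by
    rintro x (rfl | rfl | rfl | rfl)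
    · exact Or.inl inv_one
    · exact Or.inr (Or.inl (inv_eq_of_mul_eq_one_right F.t2))
    · exact Or.inr (Or.inr (Or.inl (inv_eq_of_mul_eq_one_right F.u2)))
    · exact Or.inr (Or.inr (Or.inr (inv_eq_of_mul_eq_one_right (by
        rw [mul_assoc, ← mul_assoc u t, ← F.tu, mul_assoc t u u, F.u2, mul_one, F.t2]))))

theorem mem_fourGrp {F : Frame π b t u} {x : H} :
    x ∈ fourGrp F ↔ x = 1 ∨ x = t ∨ x = u ∨ x = t * u := Iff.rfl

theorem Frame.u1 (F : Frame π b t u) : u ≠ 1 := fun h => F.t1 (by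
  have := F.conj_t
  rwa [h, mul_inv_eq_one, mul_eq_left] at this)

theorem Frame.tu1 (F : Frame π b t u) : t * u ≠ 1 := fun h => F.u1 (by
  have := F.conj_u
  rwa [h, mul_inv_eq_one, mul_eq_left] at this)

theorem Frame.t_ne_u (F : Frame π b t u) : t ≠ u := fun h => F.tu1 (by rw [← h]; exact F.t2)

theorem card_fourGrp (F : Frame π b t u) : Nat.card (fourGrp F) = 4 := by
  show Nat.card ({x | x = 1 ∨ x = t ∨ x = u ∨ x = t * u} : Set H) = 4
  have h1 : ({x | x = 1 ∨ x = t ∨ x = u ∨ x = t * u} : Set H) = {1, t, u, t * u} := by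
    ext x; simp
  rw [h1, Nat.card_coe_set_eq]
  have hut : u ≠ t * u := fun h => F.t1 (right_eq_mul.1 h)
  have htu : t ≠ t * u := fun h => F.u1 (left_eq_mul.1 h)
  rw [Set.ncard_insert_of_notMem (by simp [F.t1.symm, F.u1.symm, F.tu1.symm]) (Set.toFinite _),
    Set.ncard_insert_of_notMem (by simp [F.t_ne_u, htu]) (Set.toFinite _),
    Set.ncard_pair hut]

theorem sq_fourGrp (F : Frame π b t u) {x : H} (hx : x ∈ fourGrp F) : x * x = 1 := by
  rcases hx with rfl | rfl | rfl | rfl
  · exact one_mul 1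
  · exact F.t2
  · exact F.u2
  · rw [mul_assoc, ← mul_assoc u t, ← F.tu, mul_assoc t u u, F.u2, mul_one, F.t2]

namespace Ctx

variable [Finite H] [Finite V] (C : Ctx π R b t u)
include C

/-- `R` is the four-group, or it is a two-group with scalar squares and scalar centre. -/
theorem dichotomy : (∀ r ∈ R, r = 1 ∨ r = t ∨ r = u ∨ r = t * u) ∨
    (IsPGroup 2 R ∧ (∀ r ∈ R, Scal π (r * r)) ∧
      ∀ z ∈ R, (∀ r ∈ R, z * r = r * z) → Scal π z) := by
  by_cases hex : ∃ A : Subgroup H, A.Normal ∧ A ≤ R ∧ (∀ a ∈ A, a * a = 1) ∧ ∃ a ∈ A, ¬ Scal π a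
  · obtain ⟨A, hA, -, h2, a, ha, hns⟩ := hex
    rcases C.monomial hA h2 ha hns with h | ⟨hp, hsq, -⟩
    · exact Or.inl h
    by_cases hl : ∀ r ∈ R, r = 1 ∨ r = t ∨ r = u ∨ r = t * u
    · exact Or.inl hl
    refine Or.inr ⟨hp, hsq, fun z hz hzc => ?_⟩
    haveI := C.normal
    have hZab : ∀ x ∈ R ⊓ centralizer (R : Set H), ∀ y ∈ R ⊓ centralizer (R : Set H), x * y = y * x :=
      fun x hx y hy => mem_centralizer_iff.1 hy.2 x hx.1
    refine C.scal_of_abelian (A := R ⊓ centralizer (R : Set H)) inferInstance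
      (hp.to_le inf_le_left) hZab (fun z' hz' h2' => ?_) z
      ⟨hz, mem_centralizer_iff.2 fun r hr => (hzc r hr).symm⟩
    by_contra hns'
    let A1 : Subgroup H :=
      { carrier := {x | x ∈ R ⊓ centralizer (R : Set H) ∧ x * x = 1}
        one_mem' := ⟨one_mem _, one_mul 1⟩
        mul_mem' := fun {x y} hx hy => ⟨mul_mem hx.1 hy.1, by
          calc x * y * (x * y) = x * (y * x) * y := by group
            _ = (x * x) * (y * y) := by rw [← hZab x hx.1 y hy.1]; group
            _ = 1 := by rw [hx.2, hy.2, one_mul]⟩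
        inv_mem' := fun {x} hx => ⟨inv_mem hx.1, by rw [← mul_inv_rev, hx.2, inv_one]⟩ }
    have hA1 : A1.Normal := ⟨fun x hx g =>
      ⟨(inferInstance : (R ⊓ centralizer (R : Set H)).Normal).conj_mem x hx.1 g, by
        calc g * x * g⁻¹ * (g * x * g⁻¹) = g * (x * x) * g⁻¹ := by group
          _ = 1 := by rw [hx.2, mul_one, mul_inv_cancel]⟩⟩
    rcases C.monomial (A := A1) hA1 (fun x hx => hx.2) ⟨hz', h2'⟩ hns' with h | ⟨-, -, r, hr, a', ha', hne⟩
    · exact hl h
    · exact hne (mem_centralizer_iff.1 ha'.1.2 r hr)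
  · push Not at hex
    exact Or.inr (C.two_core hex)

omit [Finite H] [Finite V] in
/-- The three involutions of the frame are not scalar. -/
theorem not_scal {x : H} (hx : x = t ∨ x = u ∨ x = t * u) : ¬ Scal π x := by
  intro h
  have hc : b * x * b⁻¹ = x := by rw [← C.scal_central h b, mul_inv_cancel_right]
  rcases hx with rfl | rfl | rfl
  · rw [C.conj_t] at hc; exact C.toFrame.t_ne_u hc.symm
  · rw [C.conj_u] at hc; exact C.t1 (mul_eq_right.1 hc)
  · rw [show b * (t * u) * b⁻¹ = (b * t * b⁻¹) * (b * u * b⁻¹) by group, C.conj_t, C.conj_u,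
      ← mul_assoc, ← C.tu, mul_assoc, C.u2, mul_one] at hc
    exact C.toFrame.u1 (left_eq_mul.1 hc)

set_option maxHeartbeats 800000 in
/-- The structure of `R`. -/
theorem shape : ((∀ x ∈ R, x * x = 1) ∧ Nat.card R = 4) ∨
    (Cfsg.IsExtraspecial 2 R ∧ Nat.card R = 32 ∧
      ∃ A : Subgroup H, A ≤ R ∧ (∀ x ∈ A, x * x = 1) ∧ Nat.card A = 8) := by
  classical
  haveI := C.normal
  haveI : Fact (Nat.Prime 2) := ⟨Nat.prime_two⟩
  set F := C.toFrame
  have hVR : fourGrp F ≤ R := by
    rintro x (rfl | rfl | rfl | rfl)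
    exacts [one_mem R, C.tR, C.uR, mul_mem C.tR C.uR]
  rcases C.dichotomy with h | ⟨hp, hsq, hcen⟩
  · have hRV : R = fourGrp F := le_antisymm (fun r hr => h r hr) hVR
    exact Or.inl ⟨fun x hx => sq_fourGrp F (hRV ▸ hx), by rw [hRV, card_fourGrp]⟩
  haveI hSn := C.scalGrp_normal
  set S := scalGrp π with hS
  -- `b` does not centralise `R`
  have hbR : ¬ ∀ y ∈ R, b * y = y * b := fun hb => by
    have h := C.conj_t
    rw [hb t C.tR, mul_inv_cancel_right] at h
    exact F.t_ne_u h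
  have hdim := C.finrank_le_four C.normal hsq hcen hbR
  have h16 := C.card_classes_le hsq hcen hdim
  -- the centre
  have hcomm : ∀ x ∈ R, ∀ y ∈ R, Scal π ⁅x, y⁆ := fun x hx y hy => C.comm_scal hsq hx hy
  have hcenter : center R = S.subgroupOf R := by
    ext z
    rw [mem_center_iff, mem_subgroupOf]
    exact ⟨fun h => hcen z z.2 fun r hr => (congrArg Subtype.val (h ⟨r, hr⟩)).symm,
      fun h r => Subtype.ext (C.scal_central h (r : H)).symm⟩
  haveI : Nontrivial R := ⟨⟨t, C.tR⟩, 1, fun h => C.t1 (congrArg Subtype.val h)⟩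
  have hZ2 : Nat.card (S.subgroupOf R) = 2 := by
    haveI := hp.center_nontrivial
    have h1 : 1 < Nat.card (center R) := Finite.one_lt_card
    have h2 : Nat.card (S.subgroupOf R) ≤ Nat.card S :=
      Nat.card_le_card_of_injective (fun x => (⟨x.1.1, x.2⟩ : S))
        (fun x y h => Subtype.ext (Subtype.ext (congrArg (fun z : S => (z : H)) h)))
    have h3 : Nat.card S ≤ 2 := C.card_scalGrp_le
    rw [hcenter] at h1
    change 1 < _ at h1
    omega
  obtain ⟨j, hj⟩ : ∃ j, Nat.card (↥R ⧸ S.subgroupOf R) = 2 ^ j :=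
    IsPGroup.iff_card.1 (hp.to_quotient _)
  have hj4 : j ≤ 4 := (Nat.pow_le_pow_iff_right (by norm_num : 1 < 2)).1 (by rw [← hj]; exact h16)
  have hcard : Nat.card R = 2 ^ j * 2 := by
    rw [card_eq_card_quotient_mul_card_subgroup (S.subgroupOf R), hj, hZ2]
  -- `b` fixes only the identity of the quotient
  set fR := QuotientGroup.mk' (S.subgroupOf R)
  let σ : MulAut (↥R ⧸ S.subgroupOf R) :=
    QuotientGroup.congr (S.subgroupOf R) (S.subgroupOf R) (MulAut.conjNormal b : MulAut R) (by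
      refine eq_of_le_of_card_ge ?_ (card_map_of_injective (MulAut.conjNormal b : MulAut R).injective).ge
      rintro _ ⟨s, hs, rfl⟩
      show ((MulAut.conjNormal b : MulAut R) s : H) ∈ S
      rw [MulAut.conjNormal_apply]
      exact hSn.conj_mem _ hs b)
  have hσ : ∀ y : R, σ (fR y) = fR (MulAut.conjNormal b y) := fun y => rfl
  have hσ3 : σ ^ 3 = 1 := MulEquiv.ext fun q => by
    obtain ⟨y, rfl⟩ := QuotientGroup.mk'_surjective _ q
    rw [pow_three, MulAut.mul_apply, MulAut.mul_apply, hσ, hσ, hσ, ← MulAut.mul_apply, ← MulAut.mul_apply,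
      ← map_mul, ← map_mul, ← pow_three', C.b3, map_one]
    rfl
  have hfix : ∀ q, σ q = q → q = 1 := by
    intro q hq
    obtain ⟨y, rfl⟩ := QuotientGroup.mk'_surjective _ q
    rw [hσ] at hq
    have h1 := (QuotientGroup.eq).1 hq.symm
    rw [mem_subgroupOf, Subgroup.coe_mul, Subgroup.coe_inv, MulAut.conjNormal_apply] at h1
    have h2 := C.fixed_of_scal h1
    have h3 := C.fixed_free (QuotientGroup.mk' S) (fun x hx x' hx' => by
      rw [← commutatorElement_eq_one_iff_mul_comm, ← map_commutatorElement]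
      exact (QuotientGroup.eq_one_iff _).2 (hcomm x hx x' hx')) y.2
      (by rw [← map_mul, ← map_mul, h2])
    exact (QuotientGroup.eq_one_iff y).2 ((QuotientGroup.eq_one_iff (y : H)).1 h3 : (y : H) ∈ S)
  have htS : (⟨t, C.tR⟩ : R) ∉ S.subgroupOf R := fun h => C.not_scal (Or.inl rfl) h
  have hσ1 : σ ≠ 1 := fun h => htS ((QuotientGroup.eq_one_iff _).1
    (hfix (fR ⟨t, C.tR⟩) (by rw [h]; rfl)))
  obtain ⟨i, hij, hmod, hfc⟩ := fixed_card Nat.prime_two Nat.prime_three hj hσ3 hσ1
  haveI : Subsingleton {q // σ q = q} :=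
    ⟨fun a c => Subtype.ext ((hfix a.1 a.2).trans (hfix c.1 c.2).symm)⟩
  rw [Nat.card_of_subsingleton (⟨1, map_one σ⟩ : {q // σ q = q})] at hfc
  rw [hfc] at hmod
  -- the elementary subgroup of order eight
  let φ : (S ⊓ R : Subgroup H) × fourGrp F →* H :=
    MonoidHom.noncommCoprod (S ⊓ R).subtype (fourGrp F).subtype (fun s w => C.scal_central s.2.1 (w : H))
  have hφ : ∀ x, φ x = (x.1 : H) * x.2 := fun x => rfl
  have hφi : Function.Injective φ := by
    refine (injective_iff_map_eq_one φ).2 fun x hx => ?_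
    rw [hφ, mul_eq_one_iff_eq_inv] at hx
    have hw : Scal π (x.2 : H) := by
      have h := S.inv_mem x.1.2.1
      rwa [hx, inv_inv] at h
    have hw1 : (x.2 : H) = 1 := by
      rcases x.2.2 with e | e | e | e
      · exact e
      all_goals exact absurd (e ▸ hw) (C.not_scal (by tauto))
    rw [hw1, inv_one] at hx
    exact Prod.ext (Subtype.ext hx) (Subtype.ext hw1)
  have hSR : Nat.card (S ⊓ R : Subgroup H) = 2 := by
    rw [← hZ2]
    exact Nat.card_congr
      { toFun := fun x => ⟨⟨x.1, x.2.2⟩, x.2.1⟩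
        invFun := fun x => ⟨x.1.1, x.2, x.1.2⟩
        left_inv := fun _ => rfl
        right_inv := fun _ => rfl }
  have hA8 : Nat.card φ.range = 8 := by
    rw [← Nat.card_congr (MonoidHom.ofInjective hφi).toEquiv, Nat.card_prod, hSR, card_fourGrp]
  have hAR : φ.range ≤ R := by
    rintro _ ⟨x, rfl⟩
    rw [hφ]
    exact mul_mem x.1.2.2 (hVR x.2.2)
  have hA2 : ∀ x ∈ φ.range, x * x = 1 := by
    rintro _ ⟨x, rfl⟩
    have hc : (x.2 : H) * x.1 = x.1 * x.2 := (C.scal_central x.1.2.1 _).symm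
    rw [hφ, mul_assoc, ← mul_assoc (x.2 : H), hc, mul_assoc (x.1 : H) x.2, sq_fourGrp F x.2.2, mul_one,
      C.scal_sq x.1.2.1]
  -- the order
  have hj' : j = 4 := by
    have hj2 : j = 2 ∨ j = 4 := by
      interval_cases j
      · exact absurd hij (Nat.not_lt_zero i)
      · exact absurd hmod (by decide)
      · exact Or.inl rfl
      · exact absurd hmod (by decide)
      · exact Or.inr rfl
    refine hj2.resolve_left fun hj2 => ?_
    rw [hj2] at hcard
    have hRA : φ.range = R := eq_of_le_of_card_ge hAR (by rw [hA8, hcard]; norm_num)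
    refine C.not_scal (Or.inl rfl) (hcen t C.tR fun r hr => ?_)
    have h2 : ∀ x ∈ R, x * x = 1 := fun x hx => hA2 x (hRA.ge hx)
    have h := h2 _ (mul_mem C.tR hr)
    rw [mul_eq_one_iff_eq_inv, mul_inv_rev, inv_eq_of_mul_eq_one_right (h2 r hr),
      inv_eq_of_mul_eq_one_right C.t2] at h
    exact h
  rw [hj'] at hcard
  have h32 : Nat.card R = 32 := by rw [hcard]; norm_num
  refine Or.inr ⟨?_, h32, φ.range, hAR, hA2, hA8⟩
  refine CfsgLib.Coprime.isExtraspecial_of_central hp (S.subgroupOf R) hZ2 hcenter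
    (fun x y => ?_) (fun x => ?_) (fun h => ?_)
  · rw [mem_subgroupOf]
    exact hcomm x x.2 y y.2
  · rw [mem_subgroupOf, pow_two, Subgroup.coe_mul]
    exact hsq x x.2
  · rw [h, card_top, h32] at hZ2
    omega

end Ctx

end CfsgLib.CubicThree
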