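import Cfsg.Agent.Lib.CubicThree.Monomial

/-!
# A normal two-subgroup with scalar squares forces dimension at most four
-/

set_option autoImplicit false

namespace CfsgLib.CubicThree

open Subgroup Module
open scoped commutatorElement

variable {H V : Type*} [Group H] [AddCommGroup V] [Module (ZMod 3) V]
  {π : Representation (ZMod 3) H V} {R : Subgroup H} {b t u : H}

/-- The elements acting as scalars. -/
def scalGrp (π : Representation (ZMod 3) H V) : Subgroup H where
  carrier := {h | Scal π h}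
  one_mem' := Or.inl (map_one π)
  mul_mem' := fun {g h} hg hh => by
    show Scal π (g * h)
    unfold Scal
    rw [map_mul]
    rcases hg with a | a <;> rcases hh with c | c <;> rw [a, c] <;> simp
  inv_mem' := fun {g} hg => by
    show Scal π g⁻¹
    have h1 : π g⁻¹ * π g = 1 := by rw [← map_mul, inv_mul_cancel, map_one]
    rcases hg with a | a <;> rw [a] at h1
    · exact Or.inl (by rwa [mul_one] at h1)
    · refine Or.inr ?_
      rw [mul_neg, mul_one] at h1
      rw [← h1, neg_neg]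

theorem mem_scalGrp {h : H} : h ∈ scalGrp π ↔ Scal π h := Iff.rfl

namespace Ctx

variable [Finite H] [Finite V] (C : Ctx π R b t u)
include C

omit [Finite H] [Finite V] in
theorem scalGrp_normal : (scalGrp π).Normal := ⟨fun h hh g => by
  rw [← C.scal_central hh g, mul_inv_cancel_right]; exact hh⟩

omit [Finite V] in
theorem card_scalGrp_le : Nat.card (scalGrp π) ≤ 2 := by
  classical
  by_contra hlt
  push Not at hlt
  haveI : Fintype (scalGrp π) := Fintype.ofFinite _
  rw [Nat.card_eq_fintype_card, Fintype.two_lt_card_iff] at hlt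
  obtain ⟨x, y, z, hxy, hxz, hyz⟩ := hlt
  have h := fun v w : scalGrp π => fun (h1 : (v : H) ≠ 1) (h2 : (w : H) ≠ 1) =>
    Subtype.ext (C.scal_eq v.2 w.2 h1 h2)
  by_cases hx : (x : H) = 1
  · exact hyz (h y z (fun e => hxy (Subtype.ext (hx.trans e.symm)))
      (fun e => hxz (Subtype.ext (hx.trans e.symm))))
  · by_cases hy : (y : H) = 1
    · exact hxz (h x z hx (fun e => hyz (Subtype.ext (hy.trans e.symm))))
    · exact hxy (h x y hx hy)

omit [Finite H] [Finite V] in
theorem comm_scal {Y : Subgroup H} (hsq : ∀ y ∈ Y, Scal π (y * y)) {x y : H} (hx : x ∈ Y) (hy : y ∈ Y) :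
    Scal π ⁅x, y⁆ := by
  have e : ⁅x, y⁆ = x * x * ((x⁻¹ * y) * (x⁻¹ * y)) * (y⁻¹ * y⁻¹) := by
    rw [commutatorElement_def]; group
  rw [e]
  exact (scalGrp π).mul_mem ((scalGrp π).mul_mem (hsq x hx) (hsq _ (mul_mem (inv_mem hx) hy)))
    (hsq _ (inv_mem hy))

omit [Finite H] [Finite V] in
/-- Elements congruent modulo scalars to their conjugate are fixed. -/
theorem fixed_of_scal {y : H} (h : Scal π (y⁻¹ * (b * y * b⁻¹))) : b * y = y * b := by
  set z := y⁻¹ * (b * y * b⁻¹) with hz
  have h1 : b * y * b⁻¹ = y * z := by rw [hz]; group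
  have h2 : ∀ n : ℕ, b ^ n * y * (b ^ n)⁻¹ = y * z ^ n := by
    intro n
    induction n with
    | zero => simp
    | succ n ih =>
      have hzn : b * z ^ n * b⁻¹ = z ^ n := by
        rw [← C.scal_central ((scalGrp π).pow_mem h n) b, mul_inv_cancel_right]
      calc b ^ (n + 1) * y * (b ^ (n + 1))⁻¹ = b * (b ^ n * y * (b ^ n)⁻¹) * b⁻¹ := by
            rw [pow_succ']; group
        _ = (b * y * b⁻¹) * (b * z ^ n * b⁻¹) := by rw [ih]; group
        _ = y * z ^ (n + 1) := by rw [h1, hzn, pow_succ', mul_assoc]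
  have h3 := h2 3
  rw [C.b3, one_mul, inv_one, mul_one, left_eq_mul, pow_three, C.scal_sq h, mul_one] at h3
  rw [h3, mul_one] at h1
  exact mul_inv_eq_iff_eq_mul.1 h1

omit [Finite H] in
theorem finrank_le_four {Y : Subgroup H} (hY : Y.Normal) (hsq : ∀ y ∈ Y, Scal π (y * y))
    (hcen : ∀ z ∈ Y, (∀ y ∈ Y, z * y = y * z) → Scal π z) (hb : ¬ ∀ y ∈ Y, b * y = y * b) :
    finrank (ZMod 3) V ≤ 4 := by
  haveI hS := C.scalGrp_normal
  set c : H → H := fun y => y * (b * y⁻¹ * b⁻¹) with hc
  have hcY : ∀ y ∈ Y, c y ∈ Y := fun y hy => mul_mem hy (hY.conj_mem _ (inv_mem hy) b)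
  have hsw : ∀ {x y : H}, x ∈ Y → y ∈ Y → Scal π ((y * x)⁻¹ * (x * y)) := fun {x y} hx hy => by
    have e : (y * x)⁻¹ * (x * y) = ⁅x⁻¹, y⁻¹⁆ := by rw [commutatorElement_def]; group
    rw [e]
    exact C.comm_scal hsq (inv_mem hx) (inv_mem hy)
  obtain ⟨y₀, hy₀, hne⟩ : ∃ y ∈ Y, c y * c y ≠ 1 := by
    by_contra hall
    push Not at hall
    apply hb
    -- the commutators with `b`, modulo scalars
    set π' := QuotientGroup.mk' (scalGrp π)
    have hcm : ∀ {x y : H}, x ∈ Y → y ∈ Y → π' x * π' y = π' y * π' x := fun {x y} hx hy => by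
      rw [← map_mul, ← map_mul]
      exact ((QuotientGroup.eq).2 (hsw hx hy)).symm
    let K : Subgroup H :=
      { carrier := {k | k ∈ Y ∧ ∃ y ∈ Y, π' k = π' (c y)}
        one_mem' := ⟨one_mem Y, 1, one_mem Y, by simp [hc]⟩
        mul_mem' := by
          rintro k l ⟨hk, y, hy, e⟩ ⟨hl, y', hy', e'⟩
          refine ⟨mul_mem hk hl, y * y', mul_mem hy hy', ?_⟩
          rw [map_mul, e, e', ← map_mul]
          simp only [hc, mul_inv_rev, map_mul]
          have h1 := hcm hy' (hY.conj_mem _ (inv_mem hy) b)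
          simp only [map_mul] at h1
          calc π' y * (π' b * π' y⁻¹ * π' b⁻¹) * (π' y' * (π' b * π' y'⁻¹ * π' b⁻¹))
              = π' y * ((π' b * π' y⁻¹ * π' b⁻¹) * π' y') * (π' b * π' y'⁻¹ * π' b⁻¹) := by
                simp only [mul_assoc]
            _ = π' y * (π' y' * (π' b * π' y⁻¹ * π' b⁻¹)) * (π' b * π' y'⁻¹ * π' b⁻¹) := by rw [h1]
            _ = π' y * π' y' * ((π' b * π' y⁻¹ * π' b⁻¹) * (π' b * π' y'⁻¹ * π' b⁻¹)) := by
                simp only [mul_assoc]
            _ = π' y * π' y' * ((π' b * π' y'⁻¹ * π' b⁻¹) * (π' b * π' y⁻¹ * π' b⁻¹)) := by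
                have h2 := hcm (hY.conj_mem _ (inv_mem hy) b) (hY.conj_mem _ (inv_mem hy') b)
                simp only [map_mul] at h2
                rw [h2]
            _ = _ := by simp only [map_inv]; group
        inv_mem' := by
          rintro k ⟨hk, y, hy, e⟩
          refine ⟨inv_mem hk, y⁻¹, inv_mem hy, ?_⟩
          rw [map_inv, e, ← map_inv]
          simp only [hc, mul_inv_rev, inv_inv, map_mul]
          have h1 := hcm (hY.conj_mem _ hy b) (inv_mem hy)
          simp only [map_mul] at h1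
          rw [← mul_assoc]
          calc π' b * π' y * π' b⁻¹ * π' y⁻¹ = π' y⁻¹ * (π' b * π' y * π' b⁻¹) := h1
            _ = _ := by simp only [mul_assoc] }
    have hK2 : ∀ k ∈ K, k * k = 1 := by
      rintro k ⟨-, y, hy, e⟩
      have h1 : (c y)⁻¹ * k ∈ scalGrp π := (QuotientGroup.eq).1 e.symm
      have h2 : k = c y * ((c y)⁻¹ * k) := by group
      rw [h2]
      set z := (c y)⁻¹ * k
      calc c y * z * (c y * z) = c y * (z * c y) * z := by group
        _ = (c y * c y) * (z * z) := by rw [C.scal_central h1]; group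
        _ = 1 := by rw [hall y hy, C.scal_sq h1, mul_one]
    have hKab : ∀ k ∈ K, ∀ l ∈ K, k * l = l * k := fun k hk l hl => by
      have h := hK2 _ (mul_mem hk hl)
      rw [mul_eq_one_iff_eq_inv, mul_inv_rev, inv_eq_of_mul_eq_one_right (hK2 k hk),
        inv_eq_of_mul_eq_one_right (hK2 l hl)] at h
      exact h
    have hcK : ∀ y ∈ Y, c y ∈ K := fun y hy => ⟨hcY y hy, y, hy, rfl⟩
    -- they commute with the fixed points
    have hfix : ∀ k ∈ K, ∀ f ∈ Y, b * f = f * b → k * f = f * k := by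
      rintro k ⟨-, y, hy, e⟩ f hf hbf
      have h1 : (c y)⁻¹ * k ∈ scalGrp π := (QuotientGroup.eq).1 e.symm
      have hbf' : b⁻¹ * f * b = f := by rw [mul_assoc, ← hbf, inv_mul_cancel_left]
      have hz := C.comm_scal hsq (inv_mem hy) hf
      have h2 : c y * f = f * c y := by
        refine commutatorElement_eq_one_iff_mul_comm.1 ?_
        have e2 : ⁅c y, f⁆ = y * (b * ⁅y⁻¹, b⁻¹ * f * b⁆ * b⁻¹) * y⁻¹ * ⁅y, f⁆ := by
          simp only [hc, commutatorElement_def]; group
        rw [e2, hbf', ← C.scal_central hz b, mul_inv_cancel_right, ← C.scal_central hz y,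
          mul_inv_cancel_right]
        have e3 : ⁅y⁻¹, f⁆ = y⁻¹ * ⁅y, f⁆⁻¹ * y := by simp only [commutatorElement_def]; group
        have hz' := C.comm_scal hsq hy hf
        rw [e3, mul_assoc y⁻¹, C.scal_central ((scalGrp π).inv_mem hz') y, inv_mul_cancel_left,
          inv_mul_cancel]
      set z := (c y)⁻¹ * k with hzk
      rw [show k = c y * z by rw [hzk]; group, mul_assoc, C.scal_central h1 f, ← mul_assoc, h2, mul_assoc]
    -- `Y` is generated by `K` and the fixed points
    have hdec : ∀ y ∈ Y, ∃ k ∈ K, b * (k⁻¹ * y) = (k⁻¹ * y) * b := by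
      intro y hy
      set y1 := b * y * b⁻¹ with hy1
      set y2 := b * y1 * b⁻¹ with hy2
      have hY1 : y1 ∈ Y := hY.conj_mem y hy b
      have hY2 : y2 ∈ Y := hY.conj_mem y1 hY1 b
      have hy3 : b * y2 * b⁻¹ = y := by
        calc b * y2 * b⁻¹ = b ^ 3 * y * (b ^ 3)⁻¹ := by rw [hy2, hy1, pow_three]; group
          _ = y := by rw [C.b3, one_mul, inv_one, mul_one]
      refine ⟨c y * (c y * c y1), mul_mem (hcK y hy) (mul_mem (hcK y hy) (hcK y1 hY1)), ?_⟩
      have he1 : c y = y * y1⁻¹ := by rw [hy1]; simp only [hc]; group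
      have he2 : c y1 = y1 * y2⁻¹ := by rw [hy2, hy1]; simp only [hc]; group
      refine C.fixed_of_scal ?_
      show _ ∈ scalGrp π
      refine (QuotientGroup.eq_one_iff (N := scalGrp π) _).1 ?_
      show π' _ = 1
      have hsq' : ∀ {x : H}, x ∈ Y → π' x⁻¹ = π' x := fun {x} hx => by
        rw [map_inv, inv_eq_iff_mul_eq_one, ← map_mul]
        exact (QuotientGroup.eq_one_iff _).2 (hsq x hx)
      have hm : π' ((c y * (c y * c y1))⁻¹ * y) = π' y * π' y1 * π' y2 := by
        rw [show (c y * (c y * c y1))⁻¹ * y = (c y1)⁻¹ * (c y * c y)⁻¹ * y by group, hall y hy,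
          inv_one, mul_one, he2, mul_inv_rev, inv_inv, map_mul, map_mul, hsq' hY1,
          hcm hY2 hY1]
        calc π' y1 * π' y2 * π' y = π' y1 * (π' y2 * π' y) := mul_assoc _ _ _
          _ = π' y1 * (π' y * π' y2) := by rw [hcm hY2 hy]
          _ = π' y * π' y1 * π' y2 := by rw [← mul_assoc, hcm hY1 hy]
      set w := (c y * (c y * c y1))⁻¹ * y with hw
      rw [map_mul, map_inv, inv_mul_eq_one]
      symm
      calc π' (b * w * b⁻¹) = π' b * π' w * π' b⁻¹ := by rw [map_mul, map_mul]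
        _ = π' (b * y * b⁻¹) * π' (b * y1 * b⁻¹) * π' (b * y2 * b⁻¹) := by
            rw [hm]; simp only [map_mul, map_inv]; group
        _ = π' y1 * π' y2 * π' y := by rw [← hy1, ← hy2, hy3]
        _ = π' w := by
            rw [hm, mul_assoc, hcm hY2 hy, ← mul_assoc, hcm hY1 hy]
    have hKscal : ∀ k ∈ K, Scal π k := by
      intro k hk
      refine hcen k hk.1 fun y hy => ?_
      obtain ⟨l, hl, hlf⟩ := hdec y hy
      have h1 := hfix k hk (l⁻¹ * y) (mul_mem (inv_mem hl.1) hy) hlf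
      calc k * y = k * l * (l⁻¹ * y) := by group
        _ = l * (k * (l⁻¹ * y)) := by rw [hKab k hk l hl, mul_assoc]
        _ = l * ((l⁻¹ * y) * k) := by rw [h1]
        _ = y * k := by group
    intro y hy
    refine C.fixed_of_scal ?_
    have h1 := hKscal (c y) (hcK y hy)
    have e : y⁻¹ * (b * y * b⁻¹) = y⁻¹ * (c y)⁻¹ * y := by simp only [hc]; group
    rw [e, mul_assoc y⁻¹, C.scal_central ((scalGrp π).inv_mem h1) y, inv_mul_cancel_left]
    exact (scalGrp π).inv_mem h1
  -- a commutator squaring to `-1`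
  have hc1 : π (c y₀ * c y₀) = -1 :=
    (hsq (c y₀) (hcY y₀ hy₀)).resolve_left fun h => hne (C.inj (by rw [h, map_one]))
  have hbot : LinearMap.ker (π b - 1) ⊓ LinearMap.ker (π (y₀ * b * y₀⁻¹) - 1) = ⊥ := by
    refine eq_bot_iff.2 fun v hv => ?_
    obtain ⟨h1, h2⟩ := Submodule.mem_inf.1 hv
    simp only [LinearMap.mem_ker, LinearMap.sub_apply, Module.End.one_apply, sub_eq_zero] at h1 h2
    have hb' : π b⁻¹ v = v := by
      conv_lhs => rw [← h1]
      rw [← act_mul, inv_mul_cancel, act_one]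
    have hcv : π (c y₀) v = v := by
      rw [show c y₀ = (y₀ * b * y₀⁻¹) * b⁻¹ by simp only [hc]; group, act_mul, hb', h2]
    have h3 : π (c y₀ * c y₀) v = v := by rw [act_mul, hcv, hcv]
    rw [hc1, LinearMap.neg_apply, Module.End.one_apply] at h3
    exact (Submodule.mem_bot _).2 (eq_zero_of_neg h3.symm)
  have hk : ∀ g : H, finrank (ZMod 3) V ≤ finrank (ZMod 3) (LinearMap.ker (π (g * b * g⁻¹) - 1)) + 2 := by
    intro g
    have h1 := LinearMap.finrank_range_add_finrank_ker (π (g * b * g⁻¹) - 1)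
    have h2 : finrank (ZMod 3) (LinearMap.range (π (g * b * g⁻¹) - 1)) ≤ 2 := by
      refine le_trans (le_trans (Submodule.finrank_mono ?_)
        (Submodule.finrank_map_le (π g) (LinearMap.range (π b - 1)))) C.rank
      rintro _ ⟨v, rfl⟩
      refine ⟨π b (π g⁻¹ v) - π g⁻¹ v, ⟨π g⁻¹ v, rfl⟩, ?_⟩
      rw [LinearMap.sub_apply, Module.End.one_apply, map_sub, ← act_mul, ← act_mul, ← act_mul,
        mul_inv_cancel, act_one]
    omega
  have h1 := hk 1
  rw [one_mul, inv_one, mul_one] at h1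
  have h2 := hk y₀
  have h3 := Submodule.finrank_sup_add_finrank_inf_eq (LinearMap.ker (π b - 1))
    (LinearMap.ker (π (y₀ * b * y₀⁻¹) - 1))
  rw [hbot, finrank_bot, add_zero] at h3
  have h4 := Submodule.finrank_le
    (LinearMap.ker (π b - 1) ⊔ LinearMap.ker (π (y₀ * b * y₀⁻¹) - 1))
  omega

/-- The classes of such a subgroup modulo scalars act independently. -/
theorem card_classes_le {Y : Subgroup H} (hsq : ∀ y ∈ Y, Scal π (y * y))
    (hcen : ∀ z ∈ Y, (∀ y ∈ Y, z * y = y * z) → Scal π z) (hdim : finrank (ZMod 3) V ≤ 4) :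
    Nat.card (Y ⧸ (scalGrp π).subgroupOf Y) ≤ 16 := by
  classical
  haveI := C.nt
  set Q := Y ⧸ (scalGrp π).subgroupOf Y
  haveI : Fintype Q := Fintype.ofFinite Q
  let r : Q → Y := Quotient.out
  have hconj : ∀ x ∈ Y, ∀ y ∈ Y, ∃ c : ZMod 3, π (x * y * x⁻¹) = c • π y ∧
      (c = 1 ↔ x * y = y * x) := by
    intro x hx y hy
    have e : x * y * x⁻¹ = ⁅x, y⁆ * y := by rw [commutatorElement_def]; group
    rcases C.comm_scal hsq hx hy with h | h
    · refine ⟨1, by rw [e, map_mul, h, one_smul, one_mul], iff_of_true rfl ?_⟩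
      exact commutatorElement_eq_one_iff_mul_comm.1 (C.inj (by rw [h, map_one]))
    · refine ⟨-1, by rw [e, map_mul, h, neg_one_mul]; ext v; simp, iff_of_false (by decide) fun hc => ?_⟩
      rw [commutatorElement_eq_one_iff_mul_comm.2 hc, map_one] at h
      obtain ⟨v, hv⟩ := exists_ne (0 : V)
      exact hv (eq_zero_of_neg (by
        have := congrArg (fun f : V →ₗ[ZMod 3] V => f v) h
        simpa using this))
  choose κ hκ hκ1 using hconj
  let T : Y → (V →ₗ[ZMod 3] V) →ₗ[ZMod 3] (V →ₗ[ZMod 3] V) := fun g =>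
    LinearMap.mulLeftRight (ZMod 3) (π (g : H), π ((g : H)⁻¹))
  have hli : LinearIndependent (ZMod 3) (fun q : Q => π ((r q : Y) : H)) := by
    refine linearIndependent_of_separated T (fun q g => κ g g.2 (r q) (r q).2) _
      (fun q h => ?_) (fun g q => ?_) (fun q q' hqq => ?_)
    · obtain ⟨v, hv⟩ := exists_ne (0 : V)
      refine hv ?_
      have h1 : π ((r q : H)⁻¹) (π (r q : H) v) = v := by rw [← act_mul, inv_mul_cancel, act_one]
      rw [h, LinearMap.zero_apply, map_zero] at h1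
      exact h1.symm
    · show LinearMap.mulLeftRight (ZMod 3) (π (g : H), π ((g : H)⁻¹)) (π (r q : H)) = _
      rw [LinearMap.mulLeftRight_apply, ← map_mul, ← map_mul]
      exact hκ g g.2 (r q) (r q).2
    · by_contra hall
      push Not at hall
      apply hqq
      rw [← Quotient.out_eq q, ← Quotient.out_eq q']
      refine (QuotientGroup.eq).2 ?_
      rw [mem_subgroupOf, Subgroup.coe_mul, Subgroup.coe_inv]
      refine hcen _ (mul_mem (inv_mem (r q).2) (r q').2) fun y hy => ?_
      obtain ⟨n1, n2⟩ := hκ y hy (r q) (r q).2, hκ y hy (r q') (r q').2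
      have key : (r q : H)⁻¹ * (y * (r q : H) * y⁻¹) = (r q' : H)⁻¹ * (y * (r q' : H) * y⁻¹) := by
        refine C.inj ?_
        have h1 : ∀ z : Y, π (z : H)⁻¹ * π (z : H) = 1 := fun z => by
          rw [← map_mul, inv_mul_cancel, map_one]
        rw [map_mul π (r q : H)⁻¹, map_mul π (r q' : H)⁻¹, n1, hκ y hy (r q') (r q').2, mul_smul_comm,
          mul_smul_comm, h1, h1]
        exact congrArg (· • _) (hall ⟨y, hy⟩)
      set a := (r q : H)
      set a' := (r q' : H)
      have hs : Scal π (a⁻¹ * (y * a * y⁻¹)) := by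
        have e : a⁻¹ * (y * a * y⁻¹) = ⁅a⁻¹, y⁆ := by rw [commutatorElement_def]; group
        rw [e]; exact C.comm_scal hsq (inv_mem (r q).2) hy
      set z := a⁻¹ * (y * a * y⁻¹) with hz
      have e1 : y * a = a * z * y := by rw [hz]; group
      have e2 : y * a' = a' * z * y := by rw [key]; group
      have e3 : y * a⁻¹ = z⁻¹ * a⁻¹ * y :=
        calc y * a⁻¹ = z⁻¹ * a⁻¹ * (a * z * y) * a⁻¹ := by group
          _ = z⁻¹ * a⁻¹ * (y * a) * a⁻¹ := by rw [e1]
          _ = z⁻¹ * a⁻¹ * y := by group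
      symm
      calc y * (a⁻¹ * a') = z⁻¹ * a⁻¹ * (y * a') := by rw [← mul_assoc, e3]; group
        _ = z⁻¹ * (a⁻¹ * a' * z) * y := by rw [e2]; group
        _ = z⁻¹ * (z * (a⁻¹ * a')) * y := by rw [C.scal_central hs]
        _ = a⁻¹ * a' * y := by group
  have h := hli.fintype_card_le_finrank
  rw [Module.finrank_linearMap] at h
  rw [Nat.card_eq_fintype_card]
  exact h.trans (Nat.mul_le_mul hdim hdim)

end Ctx

end CfsgLib.CubicThree
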