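import Cfsg.Agent.Lib.CubicThree.Small
import Cfsg.Agent.Lib.Solvable.HallHigman
import Cfsg.Agent.Lib.Solvable.MinNormal
import Cfsg.Agent.Lib.Solvable.Nilpotent

/-!
# The structure of `R`
-/

set_option autoImplicit false

namespace CfsgLib.CubicThree

open Subgroup Module
open scoped commutatorElement

theorem zmod_five_cube : ∀ z : ZMod 5, z ^ 3 = 1 → z = 1 := by decide

theorem zmod_two_double : (0 : ZMod 2) = 1 + 1 := by decide

/-- An elementary abelian two-group has no more characters than elements. -/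
theorem card_chars_le {A : Type*} [CommGroup A] [Finite A] (h2 : ∀ a : A, a * a = 1) :
    Nat.card (A →* Multiplicative (ZMod 2)) ≤ Nat.card A := by
  letI : Module (ZMod 2) (Additive A) := AddCommGroup.zmodModule (n := 2) fun a => by
    rw [two_nsmul]
    exact congrArg Additive.ofMul (h2 (Additive.toMul a))
  haveI : Finite (Module.Dual (ZMod 2) (Additive A)) := Finite.of_injective _ DFunLike.coe_injective
  calc Nat.card (A →* Multiplicative (ZMod 2))
      ≤ Nat.card (Module.Dual (ZMod 2) (Additive A)) :=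
        Nat.card_le_card_of_injective (fun f => (MonoidHom.toAdditiveLeft f).toZModLinearMap 2)
          (fun f g h => MonoidHom.ext fun a => by
            have := congrArg (fun l : Module.Dual (ZMod 2) (Additive A) => l (Additive.ofMul a)) h
            exact congrArg Multiplicative.ofAdd this)
    _ = Nat.card (Additive A) := by
        rw [Module.natCard_eq_pow_finrank (K := ZMod 2) (V := Module.Dual (ZMod 2) (Additive A)),
          Subspace.dual_finrank_eq, ← Module.natCard_eq_pow_finrank (K := ZMod 2) (V := Additive A)]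

variable {H V : Type*} [Group H] [AddCommGroup V] [Module (ZMod 3) V]
  {π : Representation (ZMod 3) H V} {R : Subgroup H} {b t u : H}

namespace Ctx

variable [Finite H] [Finite V] (C : Ctx π R b t u)
include C

/-- A normal three-subgroup is trivial. -/
theorem pCore_three : Cfsg.pCore 3 H = ⊥ := by
  haveI : Fact (Nat.Prime 3) := ⟨Nat.prime_three⟩
  haveI hN := CfsgLib.Solvable.pCore_normal 3 H
  set N := Cfsg.pCore 3 H
  haveI := C.nt
  letI : MulAction N V :=
    { smul := fun n v => π (n : H) v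
      one_smul := fun v => act_one π v
      mul_smul := fun n m v => act_mul π _ _ v }
  have hp : IsPGroup 3 N := CfsgLib.Solvable.pCore_isPGroup 3
  have hdvd : 3 ∣ Nat.card V := by
    rw [Module.natCard_eq_pow_finrank (K := ZMod 3), Nat.card_zmod]
    exact dvd_pow_self 3 (Module.finrank_pos).ne'
  obtain ⟨w, hw, hw0⟩ := hp.exists_fixed_point_of_prime_dvd_card_of_fixed_point V hdvd (a := 0)
    (fun n => map_zero (π (n : H)))
  let X : Submodule (ZMod 3) V :=
    { carrier := {v | ∀ n ∈ N, π n v = v}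
      zero_mem' := fun n _ => map_zero _
      add_mem' := fun {x y} hx hy n hn => by rw [map_add, hx n hn, hy n hn]
      smul_mem' := fun c x hx n hn => by rw [map_smul, hx n hn] }
  have hX : X = ⊤ := (C.irred X fun h v hv n hn => by
    have h1 := hv (h⁻¹ * n * h) (by simpa using hN.conj_mem n hn h⁻¹)
    have h2 := congrArg (π h) h1
    rwa [← act_mul, show h * (h⁻¹ * n * h) = n * h by group, act_mul] at h2).resolve_left
    fun hb => hw0 (by
      have hwX : w ∈ X := fun n hn => hw ⟨n, hn⟩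
      rw [hb] at hwX
      exact ((Submodule.mem_bot _).1 hwX).symm)
  refine eq_bot_iff.2 fun n hn => mem_bot.2 (act_eq π C.inj fun v => ?_)
  rw [act_one]
  exact (hX ▸ (trivial : v ∈ (⊤ : Submodule (ZMod 3) V)) : v ∈ X) n hn

/-- Elements of order prime to three lie in `R`. -/
theorem mem_R {g : H} (hg : (orderOf g).Coprime 3) : g ∈ R := by
  haveI := C.normal
  set f := QuotientGroup.mk' R
  have h1 : ∀ y : H, f y ^ 3 = 1 := by
    intro y
    obtain ⟨r, hr, c, hc, rfl⟩ := mem_sup_of_normal_left.1 (C.gen.ge (mem_top y))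
    obtain ⟨k, rfl⟩ := mem_zpowers_iff.1 hc
    rw [map_mul, show f r = 1 from (QuotientGroup.eq_one_iff r).2 hr, one_mul, map_zpow,
      ← zpow_natCast, ← zpow_mul, mul_comm, zpow_mul, zpow_natCast, ← map_pow, C.b3, map_one, one_zpow]
  exact (QuotientGroup.eq_one_iff g).1 (orderOf_eq_one_iff.1 (Nat.eq_one_of_dvd_coprimes hg
    (orderOf_map_dvd f g) (orderOf_dvd_of_pow_eq_one (h1 g))))

/-- When all elementary normal two-subgroups are scalar, `O₂` is everything that matters. -/
theorem two_core (hA : ∀ A : Subgroup H, A.Normal → A ≤ R → (∀ a ∈ A, a * a = 1) → ∀ a ∈ A, Scal π a) :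
    IsPGroup 2 R ∧ (∀ r ∈ R, Scal π (r * r)) ∧
      ∀ z ∈ R, (∀ r ∈ R, z * r = r * z) → Scal π z := by
  classical
  haveI := C.normal
  haveI := C.solv
  haveI : Fact (Nat.Prime 2) := ⟨Nat.prime_two⟩
  haveI := CfsgLib.Solvable.pCore_normal 2 H
  set S := scalGrp π with hSdef
  haveI hSn : S.Normal := C.scalGrp_normal
  set Y := Cfsg.pCore 2 H ⊓ R with hYdef
  haveI hYn : Y.Normal := inferInstance
  have hY2 : IsPGroup 2 Y := (CfsgLib.Solvable.pCore_isPGroup 2).to_le inf_le_left
  have hYR : Y ≤ R := inf_le_right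
  have habel : ∀ A : Subgroup H, A.Normal → A ≤ Y → (∀ x ∈ A, ∀ y ∈ A, x * y = y * x) →
      ∀ a ∈ A, Scal π a := by
    intro A hAn hAY hab
    haveI := hAn
    refine C.scal_of_abelian hAn (hY2.to_le hAY) hab fun a ha h2 => ?_
    let A1 : Subgroup H :=
      { carrier := {x | x ∈ A ∧ x * x = 1}
        one_mem' := ⟨one_mem A, one_mul 1⟩
        mul_mem' := fun {x y} hx hy => ⟨mul_mem hx.1 hy.1, by
          calc x * y * (x * y) = x * (y * x) * y := by group
            _ = (x * x) * (y * y) := by rw [← hab x hx.1 y hy.1]; group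
            _ = 1 := by rw [hx.2, hy.2, one_mul]⟩
        inv_mem' := fun {x} hx => ⟨inv_mem hx.1, by rw [← mul_inv_rev, hx.2, inv_one]⟩ }
    exact hA A1 ⟨fun x hx g => ⟨hAn.conj_mem x hx.1 g, by
      calc g * x * g⁻¹ * (g * x * g⁻¹) = g * (x * x) * g⁻¹ := by group
        _ = 1 := by rw [hx.2, mul_one, mul_inv_cancel]⟩⟩ (fun x hx => hYR (hAY hx.1))
      (fun x hx => hx.2) a ⟨ha, h2⟩
  -- `C(Y) ≤ Y`
  have hFY : Cfsg.fittingSubgroup H ≤ Y := by
    rw [CfsgLib.Solvable.fittingSubgroup_eq_iSup_pCore]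
    refine iSup_le fun q => ?_
    haveI : Fact (q : ℕ).Prime := ⟨q.2⟩
    haveI hqn := CfsgLib.Solvable.pCore_normal (q : ℕ) H
    have hqp : IsPGroup (q : ℕ) (Cfsg.pCore (q : ℕ) H) := CfsgLib.Solvable.pCore_isPGroup _
    by_cases h3 : (q : ℕ) = 3
    · rw [h3, C.pCore_three]; exact bot_le
    have hle : Cfsg.pCore (q : ℕ) H ≤ R := fun g hg => by
      obtain ⟨k, hk⟩ := IsPGroup.iff_orderOf.1 hqp ⟨g, hg⟩
      rw [Subgroup.orderOf_mk] at hk
      exact C.mem_R (hk ▸ Nat.Coprime.pow_left k ((Nat.coprime_primes q.2 Nat.prime_three).2 h3))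
    by_cases h2 : (q : ℕ) = 2
    · exact le_inf (by rw [h2]) hle
    · obtain ⟨n, hn⟩ := IsPGroup.iff_card.1 hqp
      rw [C.odd_trivial hqn hle (hn ▸ Nat.Coprime.pow_left n ((Nat.coprime_primes q.2 Nat.prime_two).2 h2))]
      exact bot_le
  have hCY : centralizer (Y : Set H) ≤ Y :=
    ((centralizer_le hFY).trans CfsgLib.Solvable.centralizer_fittingSubgroup_le).trans hFY
  -- the centre of `Y`
  have hcen : ∀ z ∈ Y, (∀ y ∈ Y, z * y = y * z) → Scal π z := by
    intro z hz hc
    haveI : (Y ⊓ centralizer (Y : Set H)).Normal := inferInstance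
    exact habel _ inferInstance inf_le_left (fun x hx y hy => (mem_centralizer_iff.1 hy.2 x hx.1)) z
      ⟨hz, mem_centralizer_iff.2 fun y hy => (hc y hy).symm⟩
  -- the second centre
  let Z2 : Subgroup H :=
    { carrier := {x | x ∈ Y ∧ ∀ y ∈ Y, Scal π ⁅x, y⁆}
      one_mem' := ⟨one_mem Y, fun y _ => by rw [commutatorElement_one_left]; exact S.one_mem⟩
      mul_mem' := fun {x x'} hx hx' => ⟨mul_mem hx.1 hx'.1, fun y hy => by
        have e : ⁅x * x', y⁆ = x * ⁅x', y⁆ * x⁻¹ * ⁅x, y⁆ := by simp only [commutatorElement_def]; group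
        rw [e]
        exact S.mul_mem (hSn.conj_mem _ (hx'.2 y hy) x) (hx.2 y hy)⟩
      inv_mem' := fun {x} hx => ⟨inv_mem hx.1, fun y hy => by
        have e : ⁅x⁻¹, y⁆ = x⁻¹ * ⁅x, y⁆⁻¹ * x⁻¹⁻¹ := by simp only [commutatorElement_def]; group
        rw [e]
        exact hSn.conj_mem _ (S.inv_mem (hx.2 y hy)) _⟩ }
  haveI hZ2n : Z2.Normal := ⟨fun x hx g => ⟨hYn.conj_mem x hx.1 g, fun y hy => by
    have e : ⁅g * x * g⁻¹, y⁆ = g * ⁅x, g⁻¹ * y * g⁆ * g⁻¹ := by simp only [commutatorElement_def]; group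
    rw [e]
    exact hSn.conj_mem _ (hx.2 _ (by simpa using hYn.conj_mem y hy g⁻¹)) g⟩⟩
  have hZ2le : Z2 ≤ Y := fun x hx => hx.1
  -- bilinearity
  have hbil : ∀ {x x' y : H}, Scal π ⁅x', y⁆ → ⁅x * x', y⁆ = ⁅x, y⁆ * ⁅x', y⁆ := fun {x x' y} h => by
    have e : ⁅x * x', y⁆ = x * ⁅x', y⁆ * x⁻¹ * ⁅x, y⁆ := by simp only [commutatorElement_def]; group
    rw [e, ← C.scal_central h x, mul_inv_cancel_right, C.scal_central h]
  have hsq2 : ∀ x ∈ Z2, Scal π (x * x) := fun x hx => hcen _ (mul_mem hx.1 hx.1) fun y hy => by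
    refine commutatorElement_eq_one_iff_mul_comm.1 ?_
    rw [hbil (hx.2 y hy), C.scal_sq (hx.2 y hy)]
  have hC2 : ∀ c ∈ Y, (∀ x ∈ Z2, c * x = x * c) → Scal π c := by
    set Cc := Y ⊓ centralizer (Z2 : Set H)
    haveI hCn : Cc.Normal := inferInstance
    suffices h : Cc ≤ S by
      intro c hc hcx
      exact h ⟨hc, mem_centralizer_iff.2 fun x hx => (hcx x hx).symm⟩
    by_contra hnle
    haveI : Group.IsNilpotent Y := hY2.isNilpotent
    haveI : (S.subgroupOf Y).Normal := inferInstance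
    set f := QuotientGroup.mk' (S.subgroupOf Y)
    haveI : Group.IsNilpotent (↥Y ⧸ S.subgroupOf Y) :=
      Group.nilpotent_of_surjective f (QuotientGroup.mk'_surjective _)
    haveI : ((Cc.subgroupOf Y).map f).Normal :=
      Subgroup.Normal.map inferInstance f (QuotientGroup.mk'_surjective _)
    have hne : (Cc.subgroupOf Y).map f ≠ ⊥ := by
      intro hb
      rw [Subgroup.map_eq_bot_iff, QuotientGroup.ker_mk'] at hb
      exact hnle fun c hc => hb (show (⟨c, hc.1⟩ : Y) ∈ Cc.subgroupOf Y from hc)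
    obtain ⟨⟨z, hz⟩, hz1⟩ := ne_bot_iff_exists_ne_one.1 (CfsgLib.Solvable.normal_inf_center_ne_bot _ hne)
    obtain ⟨⟨c, hc, rfl⟩, hzc⟩ := hz
    have hc' : (c : H) ∈ Cc := hc
    have hcZ2 : (c : H) ∈ Z2 := ⟨c.2, fun y hy => by
      have h1 := mem_center_iff.1 hzc (f ⟨y, hy⟩)
      have h2 : f ⁅c, (⟨y, hy⟩ : Y)⁆ = 1 := by
        rw [map_commutatorElement, commutatorElement_eq_one_iff_mul_comm]
        exact h1.symm
      have h3 := (QuotientGroup.eq_one_iff _).1 h2
      exact h3⟩
    haveI : (Z2 ⊓ centralizer (Z2 : Set H)).Normal := inferInstance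
    have hcS : Scal π (c : H) := habel _ inferInstance (inf_le_left.trans hZ2le)
      (fun x hx y hy => mem_centralizer_iff.1 hy.2 x hx.1) _ ⟨hcZ2, hc'.2⟩
    exact hz1 (Subtype.ext ((QuotientGroup.eq_one_iff c).2 hcS))
  -- `Y` is its second centre
  have hYZ2 : ∀ y ∈ Y, y ∈ Z2 := by
    set S' := S.subgroupOf Z2
    haveI : S'.Normal := inferInstance
    let A := ↥Z2 ⧸ S'
    have hAab : ∀ x y : A, x * y = y * x := by
      intro x y
      obtain ⟨x, rfl⟩ := QuotientGroup.mk'_surjective S' x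
      obtain ⟨y, rfl⟩ := QuotientGroup.mk'_surjective S' y
      rw [← commutatorElement_eq_one_iff_mul_comm, ← map_commutatorElement]
      exact (QuotientGroup.eq_one_iff _).2 (show ⁅(x : H), (y : H)⁆ ∈ S from x.2.2 y y.2.1)
    letI : CommGroup A := { (inferInstance : Group A) with mul_comm := hAab }
    have hA2 : ∀ a : A, a * a = 1 := by
      intro a
      obtain ⟨x, rfl⟩ := QuotientGroup.mk'_surjective S' a
      rw [← map_mul]
      exact (QuotientGroup.eq_one_iff _).2 (show (x : H) * x ∈ S from hsq2 x x.2)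
    -- the character attached to an element of `Y`
    let χ : H → H → Multiplicative (ZMod 2) := fun y x =>
      Multiplicative.ofAdd (if ⁅x, y⁆ = 1 then 0 else 1)
    have hχmul : ∀ y ∈ Y, ∀ x ∈ Z2, ∀ x' ∈ Z2, χ y (x * x') = χ y x * χ y x' := by
      intro y hy x hx x' hx'
      simp only [χ]
      rw [hbil (hx'.2 y hy), ← ofAdd_add]
      congr 1
      by_cases h1 : ⁅x, y⁆ = 1
      · rw [if_pos h1, h1, one_mul, zero_add]
      · by_cases h2 : ⁅x', y⁆ = 1
        · rw [if_pos h2, h2, mul_one, add_zero]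
        · rw [if_neg h1, if_neg h2, C.scal_eq (hx.2 y hy) (hx'.2 y hy) h1 h2, C.scal_sq (hx'.2 y hy),
            if_pos rfl]
          exact zmod_two_double
    have hχS : ∀ y, ∀ x, x ∈ S → χ y x = 1 := fun y x hx => by
      simp only [χ]
      rw [if_pos (commutatorElement_eq_one_iff_mul_comm.2 (C.scal_central hx y))]
      rfl
    let e : Y → (A →* Multiplicative (ZMod 2)) := fun y =>
      QuotientGroup.lift S' (MonoidHom.mk' (fun x : Z2 => χ y x) (fun x x' => hχmul y y.2 x x.2 x' x'.2))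
        (fun x hx => hχS y x hx)
    have hker : ∀ y y' : Y, e y = e y' → Scal π ((y : H)⁻¹ * y') := by
      intro y y' he
      refine hC2 _ (mul_mem (inv_mem y.2) y'.2) fun x hx => ?_
      have h1 : χ y x = χ y' x :=
        congrArg (fun g : A →* Multiplicative (ZMod 2) => g (QuotientGroup.mk' S' ⟨x, hx⟩)) he
      simp only [χ, EmbeddingLike.apply_eq_iff_eq] at h1
      have h2 : ⁅x, (y : H)⁆ = ⁅x, (y' : H)⁆ := by
        by_cases a : ⁅x, (y : H)⁆ = 1 <;> by_cases c : ⁅x, (y' : H)⁆ = 1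
        · rw [a, c]
        · rw [if_pos a, if_neg c] at h1; exact absurd h1 zero_ne_one
        · rw [if_neg a, if_pos c] at h1; exact absurd h1 one_ne_zero
        · exact C.scal_eq (hx.2 _ y.2) (hx.2 _ y'.2) a c
      have h3 : (y : H) * x⁻¹ * (y : H)⁻¹ = (y' : H) * x⁻¹ * (y' : H)⁻¹ := by
        have := congrArg (x⁻¹ * ·) h2
        simpa [commutatorElement_def, mul_assoc] using this
      have h4 : (y : H)⁻¹ * y' * x⁻¹ = x⁻¹ * ((y : H)⁻¹ * y') := by
        calc (y : H)⁻¹ * y' * x⁻¹ = (y : H)⁻¹ * ((y' : H) * x⁻¹ * (y' : H)⁻¹) * y' := by group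
          _ = x⁻¹ * ((y : H)⁻¹ * y') := by rw [← h3]; group
      exact ((show Commute ((y : H)⁻¹ * y') x⁻¹ from h4).inv_right.eq).trans (by rw [inv_inv]) |> fun h => by
        simpa using h
    haveI : (S.subgroupOf Y).Normal := inferInstance
    haveI : Finite (A →* Multiplicative (ZMod 2)) := Finite.of_injective _ DFunLike.coe_injective
    have hcount : Nat.card (↥Y ⧸ S.subgroupOf Y) ≤ Nat.card A := by
      refine le_trans (Nat.card_le_card_of_injective (fun q : ↥Y ⧸ S.subgroupOf Y => e (Quotient.out q)) ?_)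
        (card_chars_le hA2)
      intro q q' h
      rw [← Quotient.out_eq q, ← Quotient.out_eq q']
      exact (QuotientGroup.eq).2 (show _ ∈ S from hker _ _ h)
    have hSle : ∀ s ∈ S, s ∈ Y → s ∈ Z2 := fun s hs hsY => ⟨hsY, fun y hy => by
      rw [commutatorElement_eq_one_iff_mul_comm.2 (C.scal_central hs y)]; exact S.one_mem⟩
    have hcardS : Nat.card (S.subgroupOf Y) = Nat.card S' := Nat.card_congr
      { toFun := fun s => ⟨⟨s.1.1, hSle _ s.2 s.1.2⟩, s.2⟩
        invFun := fun s => ⟨⟨s.1.1, s.1.2.1⟩, s.2⟩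
        left_inv := fun _ => rfl
        right_inv := fun _ => rfl }
    have hle : Nat.card Y ≤ Nat.card Z2 := by
      rw [card_eq_card_quotient_mul_card_subgroup (S.subgroupOf Y),
        card_eq_card_quotient_mul_card_subgroup S', hcardS]
      exact Nat.mul_le_mul_right _ hcount
    intro y hy
    exact (Subgroup.eq_of_le_of_card_ge hZ2le hle).ge hy
  have hsqY : ∀ y ∈ Y, Scal π (y * y) := fun y hy => hsq2 y (hYZ2 y hy)
  -- `b` does not centralise `Y`
  have hbY : ¬ ∀ y ∈ Y, b * y = y * b := by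
    intro hb
    have hRC : R ≤ centralizer (Y : Set H) := by
      have hbC : zpowers b ≤ centralizer (Y : Set H) :=
        zpowers_le.2 (mem_centralizer_iff.2 fun y hy => (hb y hy).symm)
      rw [← C.comm, commutator_le]
      intro r _ c hc
      rw [commutatorElement_def]
      exact mul_mem ((inferInstance : (centralizer (Y : Set H)).Normal).conj_mem c (hbC hc) r)
        (inv_mem (hbC hc))
    refine C.t1 ?_
    have h1 := C.fixed_free (MonoidHom.id H) (fun x hx y hy => mem_centralizer_iff.1 (hRC hy) x (hCY (hRC hx)))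
      C.tR (hb t (hCY (hRC C.tR)))
    exact h1
  have hdim := C.finrank_le_four hYn hsqY hcen hbY
  have h16 := C.card_classes_le hsqY hcen hdim
  suffices hRY : R ≤ Y from
    ⟨hY2.to_le hRY, fun r hr => hsqY r (hRY hr), fun z hz hc => hcen z (hRY hz) fun y hy => hc y (hYR hy)⟩
  -- the action on `Y` modulo scalars
  haveI : (S.subgroupOf Y).Normal := inferInstance
  set fY := QuotientGroup.mk' (S.subgroupOf Y)
  let act : H → MulAut (↥Y ⧸ S.subgroupOf Y) := fun g =>
    QuotientGroup.congr (S.subgroupOf Y) (S.subgroupOf Y) (MulAut.conjNormal g : MulAut Y) (by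
      refine eq_of_le_of_card_ge ?_ (card_map_of_injective (MulAut.conjNormal g : MulAut Y).injective).ge
      rintro _ ⟨s, hs, rfl⟩
      show ((MulAut.conjNormal g : MulAut Y) s : H) ∈ S
      rw [MulAut.conjNormal_apply]
      exact hSn.conj_mem _ hs g)
  have hact : ∀ g (y : Y), act g (fY y) = fY (MulAut.conjNormal g y) := fun g y => rfl
  have hactmul : ∀ g h, act (g * h) = act g * act h := fun g h => MulEquiv.ext fun q => by
    obtain ⟨y, rfl⟩ := QuotientGroup.mk'_surjective _ q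
    rw [hact, MulAut.mul_apply, hact, hact, map_mul]
    rfl
  have hactone : act 1 = 1 := MulEquiv.ext fun q => by
    obtain ⟨y, rfl⟩ := QuotientGroup.mk'_surjective _ q
    rw [hact, map_one]; rfl
  let actH : H →* MulAut (↥Y ⧸ S.subgroupOf Y) :=
    { toFun := act, map_one' := hactone, map_mul' := hactmul }
  have hkerY : ∀ y ∈ Y, actH y = 1 := fun y hy => MulEquiv.ext fun q => by
    obtain ⟨x, rfl⟩ := QuotientGroup.mk'_surjective _ q
    show act y (fY x) = fY x
    rw [hact]
    refine (QuotientGroup.eq).2 ?_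
    show ((MulAut.conjNormal y x : Y) : H)⁻¹ * x ∈ S
    rw [MulAut.conjNormal_apply]
    have e : (y * (x : H) * y⁻¹)⁻¹ * x = ⁅y, (x : H)⁻¹⁆ := by simp only [commutatorElement_def]; group
    rw [e]
    exact C.comm_scal hsqY hy (inv_mem x.2)
  have hkerR : ∀ r ∈ R, actH r = 1 → r ∈ Y := by
    let K : Subgroup H := actH.ker ⊓ R
    haveI : K.Normal := inferInstance
    have hK2 : IsPGroup 2 K := by
      rintro ⟨k, hk, hkR⟩
      have hk2 : k * k ∈ centralizer (Y : Set H) := mem_centralizer_iff.2 fun y hy => by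
        have h1 : fY (MulAut.conjNormal k ⟨y, hy⟩) = fY ⟨y, hy⟩ :=
          congrArg (fun s : MulAut (↥Y ⧸ S.subgroupOf Y) => s (fY ⟨y, hy⟩)) (MonoidHom.mem_ker.1 hk)
        have h2 : (k * y * k⁻¹)⁻¹ * y ∈ S := by
          have := (QuotientGroup.eq).1 h1
          rwa [mem_subgroupOf, Subgroup.coe_mul, Subgroup.coe_inv, MulAut.conjNormal_apply] at this
        set z := (k * y * k⁻¹)⁻¹ * y with hz
        have e1 : k * y * k⁻¹ = y * z⁻¹ := by rw [hz]; group
        have e2 : k * z⁻¹ * k⁻¹ = z⁻¹ := by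
          rw [← C.scal_central (S.inv_mem h2) k, mul_inv_cancel_right]
        symm
        calc k * k * y = k * (k * y * k⁻¹) * k⁻¹ * (k * k) := by group
          _ = k * y * k⁻¹ * (k * z⁻¹ * k⁻¹) * (k * k) := by nth_rewrite 1 [e1]; group
          _ = y * (z * z)⁻¹ * (k * k) := by rw [e1, e2]; group
          _ = y * (k * k) := by rw [C.scal_sq h2, inv_one, mul_one]
      obtain ⟨n, hn⟩ := hY2 ⟨k * k, hCY hk2⟩
      refine ⟨n + 1, Subtype.ext ?_⟩
      show k ^ 2 ^ (n + 1) = 1
      rw [pow_succ', pow_mul, pow_two]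
      exact congrArg Subtype.val hn
    intro r hr h1
    exact ⟨CfsgLib.Solvable.le_pCore ‹K.Normal› hK2 ⟨MonoidHom.mem_ker.2 h1, hr⟩, hr⟩
  obtain ⟨j, hj⟩ : ∃ j, Nat.card (↥Y ⧸ S.subgroupOf Y) = 2 ^ j :=
    IsPGroup.iff_card.1 (hY2.to_quotient _)
  have hj4 : j ≤ 4 := (Nat.pow_le_pow_iff_right (by norm_num : 1 < 2)).1 (by rw [← hj]; exact h16)
  by_contra hRY
  set f := QuotientGroup.mk' Y
  have hRb : R.map f ≠ ⊥ := fun hb => hRY (by rwa [Subgroup.map_eq_bot_iff, QuotientGroup.ker_mk'] at hb)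
  haveI hRfn : (R.map f).Normal := Subgroup.Normal.map inferInstance f (QuotientGroup.mk'_surjective Y)
  obtain ⟨D, hDn, hDne, hDle, hDmin⟩ := CfsgLib.Solvable.exists_minimal_normal_le hRfn hRb
  haveI := hDn
  obtain ⟨q, hq, hDp, hDexp, hDab⟩ := CfsgLib.Solvable.exists_isPGroup_of_minimal_normal hDne hDmin
  haveI : Fact q.Prime := ⟨hq⟩
  have hlift : ∀ x ∈ D, ∃ r ∈ R, f r = x := fun x hx => hDle hx
  have hq2 : q ≠ 2 := by
    rintro rfl
    refine hDne (eq_bot_iff.2 fun x hx => ?_)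
    obtain ⟨r, hr, rfl⟩ := hlift x hx
    let P := D.comap f ⊓ R
    have hP : IsPGroup 2 P := by
      rintro ⟨p, hp, hpR⟩
      have hp2 : p ^ 2 ∈ Y := (QuotientGroup.eq_one_iff _).1 (show f (p ^ 2) = 1 by rw [map_pow]; exact hDexp _ hp)
      obtain ⟨n, hn⟩ := hY2 ⟨p ^ 2, hp2⟩
      refine ⟨n + 1, Subtype.ext ?_⟩
      show p ^ 2 ^ (n + 1) = 1
      rw [pow_succ', pow_mul]
      exact congrArg Subtype.val hn
    exact mem_bot.2 ((QuotientGroup.eq_one_iff r).2
      ⟨CfsgLib.Solvable.le_pCore (inferInstance : P.Normal) hP ⟨hx, hr⟩, hr⟩)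
  -- elements of `D` act without fixed points
  have hfive : ∀ r ∈ R, f r ∈ D → f r ≠ 1 →
      q = 5 ∧ j = 4 ∧ ∀ v, actH r v = v → v = 1 := by
    intro r hr hrD hr1
    have hrq : r ^ q ∈ Y := (QuotientGroup.eq_one_iff _).1 (show f (r ^ q) = 1 by rw [map_pow]; exact hDexp _ hrD)
    have hσ : actH r ^ q = 1 := by rw [← map_pow]; exact hkerY _ hrq
    have hne : actH r ≠ 1 := fun h => hr1 ((QuotientGroup.eq_one_iff r).2 (hkerR r hr h))
    have hq3 : q ≠ 3 := by
      rintro rfl
      exact hr1 (orderOf_eq_one_iff.1 (Nat.eq_one_of_dvd_coprimes C.cop ((orderOf_map_dvd f r).trans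
        (by rw [← Subgroup.orderOf_mk r hr]; exact orderOf_dvd_natCard _))
        (orderOf_dvd_of_pow_eq_one (hDexp _ hrD))))
    have hq7 : q ≠ 7 := by
      rintro rfl
      have hd : 7 ∣ orderOf r := by
        have h1 : orderOf (f r) = 7 := orderOf_eq_prime (hDexp _ hrD) hr1
        exact h1 ▸ orderOf_map_dvd f r
      set g := r ^ (orderOf r / 7)
      have hg : orderOf g = 7 := orderOf_pow_orderOf_div (orderOf_pos r).ne' hd
      have hinjg : Function.Bijective (π g) := Finite.injective_iff_bijective.1 fun v w h => by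
        have := congrArg (π g⁻¹) h
        rwa [← act_mul, ← act_mul, inv_mul_cancel, act_one, act_one] at this
      let τ : MulAut (Multiplicative V) :=
        AddEquiv.toMultiplicative (AddEquiv.ofBijective (π g).toAddMonoidHom hinjg)
      have hτ : ∀ (n : ℕ) (v : V), (τ ^ n) (Multiplicative.ofAdd v) = Multiplicative.ofAdd (π (g ^ n) v) := by
        intro n v
        induction n with
        | zero => simp [act_one]
        | succ n ih => rw [pow_succ', MulAut.mul_apply, ih, pow_succ', act_mul]; rfl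
      have hτ7 : τ ^ 7 = 1 := MulEquiv.ext fun v => by
        rw [← ofAdd_toAdd v, hτ, ← hg, pow_orderOf_eq_one, act_one]; rfl
      have hτ1 : τ ≠ 1 := fun h => by
        have hg1 : g = 1 := act_eq π C.inj fun v => by
          have h1 := congrArg (fun s : MulAut (Multiplicative V) => s (Multiplicative.ofAdd v)) h
          rw [act_one]
          exact Multiplicative.ofAdd.injective h1
        rw [hg1, orderOf_one] at hg
        exact absurd hg (by norm_num)
      have hcard : Nat.card (Multiplicative V) = 3 ^ finrank (ZMod 3) V := by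
        rw [show Nat.card (Multiplicative V) = Nat.card V from rfl,
          Module.natCard_eq_pow_finrank (K := ZMod 3), Nat.card_zmod]
      rcases prime_of_card_three hq hdim hcard hτ7 hτ1 with h | h | ⟨h, -⟩ | ⟨h, -⟩ <;>
        norm_num at h
    rcases prime_of_card_two hq hj4 hj hσ hne with h | h | h | h
    · exact absurd h hq2
    · exact absurd h hq3
    · exact absurd h hq7
    · exact h
  obtain ⟨⟨x, hx⟩, hx1⟩ := ne_bot_iff_exists_ne_one.1 hDne
  have hx1' : x ≠ 1 := fun h => hx1 (Subtype.ext h)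
  obtain ⟨r₀, hr₀, rfl⟩ := hlift x hx
  obtain ⟨hq5, hj', hfree⟩ := hfive r₀ hr₀ hx hx1'
  subst hq5
  -- the centraliser of `x`
  set x := f r₀ with hxdef
  have hx5 : orderOf x = 5 := orderOf_eq_prime (hDexp x hx) hx1'
  set Cx := R.map f ⊓ centralizer ({x} : Set (H ⧸ Y))
  have hrigid : ∀ c ∈ R, f c * x = x * f c → (∃ v, v ≠ 1 ∧ actH c v = v) → f c = 1 := by
    rintro c hc hcx ⟨v, hv1, hv⟩
    refine (QuotientGroup.eq_one_iff c).2 (hkerR c hc ?_)
    have hcomm : actH c * actH r₀ = actH r₀ * actH c := by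
      have h1 : ⁅c, r₀⁆ ∈ Y := (QuotientGroup.eq_one_iff _).1 (show f ⁅c, r₀⁆ = 1 by
        rw [map_commutatorElement, commutatorElement_eq_one_iff_mul_comm]; exact hcx)
      rw [← map_mul, ← map_mul, show c * r₀ = ⁅c, r₀⁆ * (r₀ * c) by rw [commutatorElement_def]; group,
        map_mul, hkerY _ h1, one_mul]
    let Fx : Subgroup (↥Y ⧸ S.subgroupOf Y) := (actH c).toMonoidHom.eqLocus (MonoidHom.id _)
    have hinv : ∀ w ∈ Fx, actH r₀ w ∈ Fx := fun w hw => by
      show actH c (actH r₀ w) = actH r₀ w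
      rw [← MulAut.mul_apply, hcomm, MulAut.mul_apply, show actH c w = w from hw]
    have hFx : Nat.card Fx ≤ Nat.card (↥Y ⧸ S.subgroupOf Y) := card_le_card_group Fx
    obtain ⟨i, hi⟩ := IsPGroup.iff_card.1 ((IsPGroup.of_card hj).to_subgroup Fx)
    have hi1 : 0 < i := by
      by_contra h0
      rw [Nat.le_zero.1 (not_lt.1 h0), pow_zero] at hi
      rw [Subgroup.card_eq_one] at hi
      exact hv1 (mem_bot.1 (hi ▸ (hv : v ∈ Fx)))
    let τ : MulAut Fx :=
      { toFun := fun w => ⟨actH r₀ (w : ↥Y ⧸ S.subgroupOf Y), hinv w w.2⟩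
        invFun := fun w => ⟨(actH r₀).symm (w : ↥Y ⧸ S.subgroupOf Y), by
          have hm : Fx.map (actH r₀).toMonoidHom = Fx := eq_of_le_of_card_ge
            (by rintro _ ⟨z, hz, rfl⟩; exact hinv z hz) (card_map_of_injective (actH r₀).injective).ge
          obtain ⟨z, hz, e⟩ := hm.ge w.2
          rw [← e]
          show (actH r₀).symm (actH r₀ z) ∈ Fx
          rwa [MulEquiv.symm_apply_apply]⟩
        left_inv := fun w => Subtype.ext ((actH r₀).symm_apply_apply w)
        right_inv := fun w => Subtype.ext ((actH r₀).apply_symm_apply w)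
        map_mul' := fun w z => Subtype.ext
          (map_mul (actH r₀) (w : ↥Y ⧸ S.subgroupOf Y) (z : ↥Y ⧸ S.subgroupOf Y)) }
    have hτpow : ∀ (n : ℕ) (w : Fx), ((τ ^ n) w : ↥Y ⧸ S.subgroupOf Y) = (actH r₀ ^ n) w := by
      intro n w
      induction n with
      | zero => rfl
      | succ n ih => rw [pow_succ', MulAut.mul_apply, pow_succ', MulAut.mul_apply, ← ih]; rfl
    have hτ5 : τ ^ 5 = 1 := MulEquiv.ext fun w => Subtype.ext (by
      rw [hτpow, ← map_pow,
        hkerY _ ((QuotientGroup.eq_one_iff _).1 (show f (r₀ ^ 5) = 1 by rw [map_pow]; exact hDexp _ hx))]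
      rfl)
    have hτ1 : τ ≠ 1 := fun h => hv1 (hfree v (congrArg Subtype.val
      (congrArg (fun s : MulAut Fx => s ⟨v, hv⟩) h)))
    have hij : i ≤ j := (Nat.pow_le_pow_iff_right (by norm_num : 1 < 2)).1 (by rw [← hi, ← hj]; exact hFx)
    rcases prime_of_card_two (by norm_num) (hij.trans hj4) hi hτ5 hτ1 with h | h | h | ⟨-, h, -⟩
    · norm_num at h
    · norm_num at h
    · norm_num at h
    · have htop : Fx = ⊤ := eq_top_of_card_eq _ (by rw [hi, hj, h, hj'])
      exact MulEquiv.ext fun w => htop.ge (mem_top w)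
  haveI : Fintype (↥Y ⧸ S.subgroupOf Y) := Fintype.ofFinite _
  obtain ⟨v₀, hv₀⟩ : ∃ v : ↥Y ⧸ S.subgroupOf Y, v ≠ 1 := by
    by_contra h
    push Not at h
    haveI : Subsingleton (↥Y ⧸ S.subgroupOf Y) := ⟨fun a c => (h a).trans (h c).symm⟩
    rw [Nat.card_of_subsingleton (1 : ↥Y ⧸ S.subgroupOf Y), hj'] at hj
    norm_num at hj
  choose l hl hlf using fun c : Cx => (c.2.1 : (c : H ⧸ Y) ∈ R.map f)
  have hinj : Function.Injective (fun c : Cx => (⟨actH (l c) v₀, fun h => hv₀ ((actH (l c)).injective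
      (h.trans (map_one _).symm))⟩ : {v : ↥Y ⧸ S.subgroupOf Y // v ≠ 1})) := by
    intro c c' h
    have h' : actH (l c) v₀ = actH (l c') v₀ := congrArg Subtype.val h
    have hfx : ∀ d : Cx, f (l d) * x = x * f (l d) := fun d => by
      rw [hlf]; exact (mem_centralizer_singleton_iff.1 d.2.2)
    have h2 := hrigid ((l c)⁻¹ * l c') (mul_mem (inv_mem (hl c)) (hl c')) (by
      rw [map_mul, map_inv]
      exact ((show Commute (f (l c)) x from hfx c).inv_left.mul_left (hfx c')).eq) ⟨v₀, hv₀, by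
        rw [map_mul, MulAut.mul_apply, ← h', map_inv]
        exact (actH (l c)).symm_apply_apply v₀⟩
    rw [map_mul, map_inv, inv_mul_eq_one, hlf, hlf] at h2
    exact Subtype.ext h2
  have h15 : Nat.card Cx ≤ 15 := by
    refine (Nat.card_le_card_of_injective _ hinj).trans ?_
    rw [Nat.card_eq_fintype_card, Fintype.card_subtype_compl, Fintype.card_subtype_eq,
      ← Nat.card_eq_fintype_card, hj, hj']
    norm_num
  have hxC : x ∈ Cx := ⟨hDle hx, mem_centralizer_singleton_iff.2 rfl⟩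
  have h5C : 5 ∣ Nat.card Cx := by
    rw [← hx5, ← Subgroup.orderOf_mk x hxC]
    exact orderOf_dvd_natCard _
  have h3C : ¬ 3 ∣ Nat.card Cx := fun h => by
    have h1 : Nat.card Cx ∣ Nat.card R := (card_dvd_of_le inf_le_left).trans (card_map_dvd R f)
    exact absurd (Nat.eq_one_of_dvd_coprimes C.cop (h.trans h1) dvd_rfl) (by norm_num)
  have h2C : ¬ 2 ∣ Nat.card Cx := by
    intro h
    haveI : Fact (Nat.Prime 2) := ⟨Nat.prime_two⟩
    obtain ⟨c, hc⟩ := exists_prime_orderOf_dvd_card' 2 h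
    have hcf : f (l c) = c := hlf c
    have hc1 : f (l c) ≠ 1 := by
      rw [hcf]
      intro h1
      rw [show c = 1 from Subtype.ext h1, orderOf_one] at hc
      norm_num at hc
    have hl2 : (l c) ^ 2 ∈ Y := (QuotientGroup.eq_one_iff _).1 (show f ((l c) ^ 2) = 1 by
      rw [map_pow, hcf]
      exact congrArg Subtype.val (show c ^ 2 = 1 by rw [← hc, pow_orderOf_eq_one]))
    have hσ2 : actH (l c) ^ 2 = 1 := by rw [← map_pow]; exact hkerY _ hl2
    have hne : actH (l c) ≠ 1 := fun h1 => hc1 ((QuotientGroup.eq_one_iff _).2 (hkerR _ (hl c) h1))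
    obtain ⟨i, hi, hmod, hcard⟩ := fixed_card Nat.prime_two Nat.prime_two hj hσ2 hne
    refine hc1 (hrigid (l c) (hl c) (by rw [hcf]; exact mem_centralizer_singleton_iff.1 c.2.2) ?_)
    by_contra hnofix
    push Not at hnofix
    haveI : Subsingleton {v // actH (l c) v = v} := ⟨fun a a' => Subtype.ext (by
      rw [by_contra fun h => hnofix a.1 h a.2, by_contra fun h => hnofix a'.1 h a'.2])⟩
    rw [Nat.card_of_subsingleton (⟨1, map_one _⟩ : {v // actH (l c) v = v})] at hcard
    rw [hcard, hj'] at hmod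
    exact absurd hmod (by decide)
  have hCcard : Nat.card Cx = 5 := by
    obtain ⟨k, hk⟩ := h5C
    have : k ≤ 3 := by omega
    have hpos : 0 < Nat.card Cx := Nat.card_pos
    interval_cases k <;> omega
  have hCeq : Cx = zpowers x := (eq_of_le_of_card_ge (zpowers_le.2 hxC) (by
    rw [hCcard, Nat.card_zpowers, hx5])).symm
  have hDC : D ≤ Cx := fun d hd => ⟨hDle hd, mem_centralizer_singleton_iff.2
    (congrArg Subtype.val (hDab.is_comm.comm ⟨d, hd⟩ ⟨x, hx⟩))⟩
  have hDeq : D = zpowers x := le_antisymm (hCeq ▸ hDC) (zpowers_le.2 hx)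
  -- `b` centralises `D`
  have hbx : f b * x = x * f b := by
    obtain ⟨k, hk⟩ := mem_zpowers_iff.1 (hDeq ▸ hDn.conj_mem x hx (f b))
    have hk2 : ∀ n : ℕ, f b ^ n * x * (f b ^ n)⁻¹ = x ^ (k ^ n) := by
      intro n
      induction n with
      | zero => simp
      | succ n ih =>
        have h5 := conj_zpow (i := k ^ n) (a := f b) (b := x)
        rw [← hk, ← zpow_mul] at h5
        calc f b ^ (n + 1) * x * (f b ^ (n + 1))⁻¹ = f b * (f b ^ n * x * (f b ^ n)⁻¹) * (f b)⁻¹ := by
              rw [pow_succ']; group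
          _ = x ^ (k ^ (n + 1)) := by rw [ih, pow_succ', h5]
    have h3 := hk2 3
    rw [← map_pow, C.b3, map_one, one_mul, inv_one, mul_one] at h3
    have hk1 : ((k ^ 3 : ℤ) : ZMod 5) = 1 := by
      have : x ^ (k ^ 3 - 1) = 1 := by rw [zpow_sub, ← h3, zpow_one, mul_inv_cancel]
      rw [← orderOf_dvd_iff_zpow_eq_one, hx5, ← ZMod.intCast_zmod_eq_zero_iff_dvd] at this
      rw [Int.cast_sub, sub_eq_zero, Int.cast_one] at this
      exact this
    have hk' : (k : ZMod 5) = 1 := by
      rw [Int.cast_pow] at hk1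
      exact zmod_five_cube _ hk1
    have hxk : x ^ k = x := by
      have : x ^ (k - 1) = 1 := by
        rw [← orderOf_dvd_iff_zpow_eq_one, hx5, ← ZMod.intCast_zmod_eq_zero_iff_dvd, Int.cast_sub,
          hk', Int.cast_one, sub_self]
      rw [zpow_sub, zpow_one, mul_inv_eq_one] at this
      exact this
    rw [hxk] at hk
    exact mul_inv_eq_iff_eq_mul.1 hk.symm
  have hRC : R.map f ≤ centralizer (D : Set (H ⧸ Y)) := by
    have hbC : (zpowers b).map f ≤ centralizer (D : Set (H ⧸ Y)) := by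
      rw [MonoidHom.map_zpowers, zpowers_le, mem_centralizer_iff]
      intro d hd
      obtain ⟨k, rfl⟩ := mem_zpowers_iff.1 (hDeq ▸ hd)
      exact ((show Commute (f b) x from hbx).zpow_right k).eq.symm
    conv_lhs => rw [← C.comm, map_commutator]
    rw [commutator_le]
    intro r _ c hc
    rw [commutatorElement_def]
    exact mul_mem ((inferInstance : (centralizer (D : Set (H ⧸ Y))).Normal).conj_mem c (hbC hc) r)
      (inv_mem (hbC hc))
  have hRfC : R.map f ≤ zpowers x := fun y hy => hCeq ▸ (⟨hy, mem_centralizer_singleton_iff.2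
    (mem_centralizer_iff.1 (hRC hy) x hx).symm⟩ : y ∈ Cx)
  refine hx1' (C.fixed_free f (fun p hp p' hp' => ?_) hr₀ hbx)
  obtain ⟨a, ha⟩ := mem_zpowers_iff.1 (hRfC (mem_map_of_mem f hp))
  obtain ⟨a', ha'⟩ := mem_zpowers_iff.1 (hRfC (mem_map_of_mem f hp'))
  rw [← ha, ← ha', ← zpow_add, ← zpow_add, add_comm]

end Ctx

end CfsgLib.CubicThree
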